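import Mathlib

/-!
The standard regular unipotent element `1 + J` of `SL_n`, `J` the nilpotent shift.
-/

set_option autoImplicit false

namespace CfsgLib.RegUnip

open Matrix

variable {F : Type*} [Field F]

/-- The nilpotent shift: `J e_{i+1} = e_i`. -/
def shiftMat (n : ℕ) (F : Type*) [Field F] : Matrix (Fin n) (Fin n) F :=
  fun i j => if i.val + 1 = j.val then 1 else 0

theorem shiftMat_mulVec (n : ℕ) (v : Fin n → F) (i : Fin n) :
    (shiftMat n F *ᵥ v) i = if h : i.val + 1 < n then v ⟨i.val + 1, h⟩ else 0 := by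
  simp only [mulVec, dotProduct, shiftMat]
  split
  · rename_i h
    rw [Finset.sum_eq_single ⟨i.val + 1, h⟩]
    · simp
    · intro j _ hj
      rw [if_neg (fun e => hj (Fin.ext (e.symm))), zero_mul]
    · simp
  · rename_i h
    refine Finset.sum_eq_zero fun j _ => ?_
    rw [if_neg (by omega), zero_mul]

theorem vecMul_shiftMat (n : ℕ) (v : Fin n → F) (j : Fin n) :
    (v ᵥ* shiftMat n F) j = if h : 0 < j.val then v ⟨j.val - 1, by omega⟩ else 0 := by
  simp only [vecMul, dotProduct, shiftMat]
  split
  · rename_i h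
    rw [Finset.sum_eq_single ⟨j.val - 1, by omega⟩]
    · rw [if_pos (show (j.val - 1) + 1 = j.val by omega), mul_one]
    · intro i _ hi
      rw [if_neg (fun e => hi (Fin.ext (show i.val = j.val - 1 by omega))), mul_zero]
    · simp
  · rename_i h
    refine Finset.sum_eq_zero fun i _ => ?_
    rw [if_neg (by omega), mul_zero]

theorem shiftMat_pow_apply (n : ℕ) (k : ℕ) (i j : Fin n) :
    (shiftMat n F ^ k) i j = if i.val + k = j.val then 1 else 0 := by
  induction k generalizing j with
  | zero => simp [one_apply, Fin.ext_iff]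
  | succ k ih =>
    rw [pow_succ]
    change ((shiftMat n F ^ k) i ᵥ* shiftMat n F) j = _
    rw [vecMul_shiftMat]
    split
    · rw [ih]
      dsimp only
      congr 1
      simp only [eq_iff_iff]
      omega
    · rw [if_neg (by omega)]

theorem shiftMat_pow_eq_zero (n : ℕ) : shiftMat n F ^ n = 0 := by
  ext i j
  rw [shiftMat_pow_apply, if_neg (by omega)]
  rfl

theorem shiftMat_isNilpotent (n : ℕ) : IsNilpotent (shiftMat n F) :=
  ⟨n, shiftMat_pow_eq_zero n⟩

theorem shiftMat_pow_pred_ne_zero (n : ℕ) (hn : 0 < n) : shiftMat n F ^ (n - 1) ≠ 0 := by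
  intro h
  have := congrFun (congrFun h ⟨0, hn⟩) ⟨n - 1, by omega⟩
  rw [shiftMat_pow_apply] at this
  simp at this

theorem det_one_add_shiftMat (n : ℕ) : (1 + shiftMat n F).det = 1 := by
  rw [det_of_upperTriangular]
  · simp [shiftMat]
  · intro i j hij
    simp only [id] at hij
    have : j.val < i.val := hij
    simp only [Matrix.add_apply, shiftMat]
    rw [one_apply_ne (fun e => by simp [e] at this), if_neg (by omega), add_zero]

/-- The standard regular unipotent element. -/
def regUnip (n : ℕ) (F : Type*) [Field F] : Matrix.SpecialLinearGroup (Fin n) F :=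
  ⟨1 + shiftMat n F, det_one_add_shiftMat n⟩

@[simp]
theorem regUnip_val (n : ℕ) : (regUnip n F : Matrix (Fin n) (Fin n) F) = 1 + shiftMat n F := rfl

theorem regUnip_isRegular (n : ℕ) (hn : 0 < n) :
    IsNilpotent ((regUnip n F : Matrix (Fin n) (Fin n) F) - 1) ∧
      ((regUnip n F : Matrix (Fin n) (Fin n) F) - 1) ^ (n - 1) ≠ 0 := by
  rw [regUnip_val, add_sub_cancel_left]
  exact ⟨shiftMat_isNilpotent n, shiftMat_pow_pred_ne_zero n hn⟩

end CfsgLib.RegUnip
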