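import Mathlib

/-!
Generation criteria for `SL_n` over a field by transvections `1 + a fᵀ` with `f ⬝ᵥ a = 0`.
-/

set_option autoImplicit false

namespace CfsgLib.RegUnip

open Matrix

variable {ι F : Type*} [Fintype ι] [DecidableEq ι] [Field F]

theorem val_mul (A B : SpecialLinearGroup ι F) :
    ((A * B : SpecialLinearGroup ι F) : Matrix ι ι F) = (A : Matrix ι ι F) * (B : Matrix ι ι F) :=
  rfl

theorem val_one : ((1 : SpecialLinearGroup ι F) : Matrix ι ι F) = 1 := rfl

theorem transvec_mulVec {i j : ι} (hij : i ≠ j) (b : F) (v : ι → F) :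
    (SpecialLinearGroup.transvection hij b : Matrix ι ι F) *ᵥ v = v + Pi.single i (b * v j) := by
  rw [SpecialLinearGroup.transvection_coe, add_mulVec, one_mulVec]
  congr 1
  ext k
  by_cases hk : k = i
  · subst hk; simp [mulVec, dotProduct, single_apply]
  · simp [mulVec, dotProduct, single_apply, hk, Ne.symm hk]

theorem diag2n_eq_prod {i j : ι} (hij : i ≠ j) (c : F) (hc : c ≠ 0) :
    SpecialLinearGroup.diag2n hij c hc =
      SpecialLinearGroup.transvection hij c * (SpecialLinearGroup.transvection hij.symm (-c⁻¹) *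
      (SpecialLinearGroup.transvection hij c * (SpecialLinearGroup.transvection hij (-1) *
      (SpecialLinearGroup.transvection hij.symm 1 * SpecialLinearGroup.transvection hij (-1))))) := by
  refine Subtype.ext (Matrix.ext_of_mulVec_single fun l => ?_)
  simp only [val_mul, ← mulVec_mulVec, transvec_mulVec]
  rw [SpecialLinearGroup.diag2n_coe]
  ext k
  rw [mulVec_diagonal]
  by_cases hki : k = i
  · subst hki
    simp [hij, hij.symm, Pi.single_apply]
    by_cases hl : k = l <;> by_cases hl' : j = l <;> simp_all <;> field_simp <;> ring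
  · by_cases hkj : k = j
    · subst hkj
      simp [hij, hij.symm, Pi.single_apply]
      by_cases hl : k = l <;> by_cases hl' : i = l <;> simp_all <;> field_simp <;> ring
    · simp [hki, hkj, Pi.single_apply]

theorem eq_top_of_transvection_mem [Nontrivial ι] (G : Subgroup (SpecialLinearGroup ι F))
    (h : ∀ (i j : ι) (hij : i ≠ j) (c : F), SpecialLinearGroup.transvection hij c ∈ G) : G = ⊤ := by
  refine (Subgroup.eq_top_iff' G).2 fun M => ?_
  refine SpecialLinearGroup.diagonal_transvection_induction' (fun A => A ∈ G) M ?_ h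
    (fun A B => mul_mem)
  intro i j hij c hc
  rw [diag2n_eq_prod hij c hc]
  exact mul_mem (h _ _ _ _) (mul_mem (h _ _ _ _) (mul_mem (h _ _ _ _) (mul_mem (h _ _ _ _)
    (mul_mem (h _ _ _ _) (h _ _ _ _)))))

/-- `1 + a fᵀ` lies in the subgroup `G`. -/
def HasTransvec (G : Subgroup (SpecialLinearGroup ι F)) (a f : ι → F) : Prop :=
  ∃ g ∈ G, (g : Matrix ι ι F) = 1 + vecMulVec a f

namespace HasTransvec

variable {G : Subgroup (SpecialLinearGroup ι F)}

theorem zero_right (a : ι → F) : HasTransvec G a 0 :=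
  ⟨1, G.one_mem, by simp⟩

theorem zero_left (f : ι → F) : HasTransvec G 0 f :=
  ⟨1, G.one_mem, by simp⟩

theorem add_right {a f f' : ι → F} (hf : f ⬝ᵥ a = 0) (h : HasTransvec G a f)
    (h' : HasTransvec G a f') : HasTransvec G a (f + f') := by
  obtain ⟨g, hg, e⟩ := h
  obtain ⟨g', hg', e'⟩ := h'
  refine ⟨g * g', G.mul_mem hg hg', ?_⟩
  rw [val_mul, e, e', add_mul, one_mul, mul_add, mul_one,
    vecMulVec_mul_vecMulVec, hf, zero_smul, vecMulVec_add]
  simp [vecMulVec_zero]
  abel

theorem add_left {a a' f : ι → F} (hf : f ⬝ᵥ a = 0) (hf' : f ⬝ᵥ a' = 0) (h : HasTransvec G a f)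
    (h' : HasTransvec G a' f) : HasTransvec G (a + a') f := by
  obtain ⟨g, hg, e⟩ := h
  obtain ⟨g', hg', e'⟩ := h'
  refine ⟨g * g', G.mul_mem hg hg', ?_⟩
  rw [val_mul, e, e', add_mul, one_mul, mul_add, mul_one,
    vecMulVec_mul_vecMulVec, hf', zero_smul, add_vecMulVec]
  simp [vecMulVec_zero]
  abel

theorem smul_left_iff {a f : ι → F} (c : F) :
    HasTransvec G (c • a) f ↔ HasTransvec G a (c • f) := by
  have : vecMulVec (c • a) f = vecMulVec a (c • f) := by
    ext i j; simp [vecMulVec_apply]; ring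
  simp [HasTransvec, this]

theorem conj {a f : ι → F} {g : SpecialLinearGroup ι F} (hg : g ∈ G) (h : HasTransvec G a f) :
    HasTransvec G ((g : Matrix ι ι F) *ᵥ a) (f ᵥ* ((g⁻¹ : SpecialLinearGroup ι F) : Matrix ι ι F)) := by
  obtain ⟨t, ht, e⟩ := h
  refine ⟨g * t * g⁻¹, G.mul_mem (G.mul_mem hg ht) (G.inv_mem hg), ?_⟩
  rw [val_mul, val_mul, e, mul_add, mul_one, add_mul,
    mul_vecMulVec, vecMulVec_mul, ← val_mul, mul_inv_cancel,
    val_one]

theorem commutator {a f b g : ι → F} (hga : g ⬝ᵥ a = 0) (hfa : f ⬝ᵥ a = 0) (hgb : g ⬝ᵥ b = 0)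
    (h : HasTransvec G a f) (h' : HasTransvec G b g) : HasTransvec G a ((f ⬝ᵥ b) • g) := by
  obtain ⟨t, ht, et⟩ := h
  obtain ⟨s, hs, es⟩ := h'
  refine ⟨t * s * t⁻¹ * s⁻¹, G.mul_mem (G.mul_mem (G.mul_mem ht hs) (G.inv_mem ht))
    (G.inv_mem hs), ?_⟩
  set k := f ⬝ᵥ b
  have key : (1 + vecMulVec a (k • g)) * (s : Matrix ι ι F) * (t : Matrix ι ι F) =
      (t : Matrix ι ι F) * (s : Matrix ι ι F) := by
    rw [et, es]
    simp only [add_mul, mul_add, one_mul, mul_one, vecMulVec_mul_vecMulVec, smul_dotProduct, hga,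
      hgb, hfa, zero_smul, smul_zero, smul_eq_mul, vecMulVec_zero, mul_zero, zero_mul, add_zero]
    have hk : k = f ⬝ᵥ b := rfl
    rw [← hk]
    abel
  rw [← val_mul] at key
  calc ((t * s * t⁻¹ * s⁻¹ : SpecialLinearGroup ι F) : Matrix ι ι F)
      = ((t * s : SpecialLinearGroup ι F) : Matrix ι ι F) *
          ((t⁻¹ * s⁻¹ : SpecialLinearGroup ι F) : Matrix ι ι F) := by
        rw [← val_mul]; group
    _ = 1 + vecMulVec a (k • g) := by
        rw [← key, mul_assoc, mul_assoc, ← val_mul, ← val_mul]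
        simp [mul_assoc]

end HasTransvec

/-- If `G` contains all transvections with centre `e` and the `G`-orbit of `e` spans,
then `G` is everything. -/
theorem eq_top_of_centre [Nontrivial ι] (G : Subgroup (SpecialLinearGroup ι F)) (e : ι → F)
    (he : ∀ f : ι → F, f ⬝ᵥ e = 0 → HasTransvec G e f)
    (hspan : ∀ W : Submodule F (ι → F), e ∈ W →
      (∀ g ∈ G, ∀ v ∈ W, (g : Matrix ι ι F) *ᵥ v ∈ W) → W = ⊤) : G = ⊤ := by
  have hinv : ∀ g ∈ G, ∀ a : ι → F, (∀ f : ι → F, f ⬝ᵥ a = 0 → HasTransvec G a f) →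
      ∀ f : ι → F, f ⬝ᵥ ((g : Matrix ι ι F) *ᵥ a) = 0 →
        HasTransvec G ((g : Matrix ι ι F) *ᵥ a) f := by
    intro g hg a ha f hf
    have := HasTransvec.conj hg (ha (f ᵥ* (g : Matrix ι ι F)) (by rwa [← dotProduct_mulVec]))
    rwa [vecMul_vecMul, ← val_mul, mul_inv_cancel, val_one,
      vecMul_one] at this
  let S : Set (ι → F) := {a | ∀ f : ι → F, f ⬝ᵥ a = 0 → HasTransvec G a f}
  have hsmul : ∀ (c : F) (a : ι → F), a ∈ S → c • a ∈ S := by
    intro c a ha f hf
    rcases eq_or_ne c 0 with rfl | hc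
    · rw [zero_smul]; exact HasTransvec.zero_left f
    · rw [HasTransvec.smul_left_iff]
      apply ha
      rw [smul_dotProduct]
      rwa [dotProduct_smul] at hf
  have hadd : ∀ a a' : ι → F, a ∈ S → a' ∈ S → a + a' ∈ S := by
    intro a a' ha ha'
    by_cases hcase : ∃ f : ι → F, f ⬝ᵥ a' = 0 ∧ f ⬝ᵥ a ≠ 0
    · obtain ⟨f, hfa', hfa⟩ := hcase
      obtain ⟨g, hg, eg⟩ := ha' ((f ⬝ᵥ a)⁻¹ • f) (by rw [smul_dotProduct, hfa', smul_zero])
      have h1 : (g : Matrix ι ι F) *ᵥ a = a + a' := by
        rw [eg, add_mulVec, one_mulVec, vecMulVec_mulVec, smul_dotProduct, smul_eq_mul,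
          inv_mul_cancel₀ hfa]
        simp
      intro f' hf'
      rw [← h1] at hf' ⊢
      exact hinv g hg a ha f' hf'
    · push Not at hcase
      rcases eq_or_ne a' 0 with rfl | hne
      · simpa using ha
      · obtain ⟨j, hj⟩ := Function.ne_iff.mp hne
        have hmul : a = (a j / a' j) • a' := by
          ext i
          have := hcase (Pi.single i (a' j) - Pi.single j (a' i))
            (by rw [sub_dotProduct, single_dotProduct, single_dotProduct]; ring)
          rw [sub_dotProduct, single_dotProduct, single_dotProduct, sub_eq_zero] at this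
          simp only [Pi.zero_apply] at hj
          simp [div_mul_eq_mul_div]
          field_simp
          linear_combination this
        rw [hmul, show (a j / a' j) • a' + a' = (a j / a' j + 1) • a' by rw [add_smul, one_smul]]
        exact hsmul _ _ ha'
  let W : Submodule F (ι → F) :=
    { carrier := S
      add_mem' := fun {x y} hx hy => hadd x y hx hy
      zero_mem' := fun f _ => HasTransvec.zero_left f
      smul_mem' := fun c x hx => hsmul c x hx }
  have hW : W = ⊤ := hspan W he (fun g hg v hv => hinv g hg v hv)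
  refine eq_top_of_transvection_mem G fun i j hij c => ?_
  have hmem : Pi.single i (1 : F) ∈ W := hW ▸ Submodule.mem_top
  obtain ⟨g, hg, eg⟩ := hmem (Pi.single j c)
    (by rw [dotProduct_single, Pi.single_eq_of_ne hij]; simp)
  convert hg using 1
  refine Subtype.ext ?_
  rw [eg, SpecialLinearGroup.transvection_coe]
  congr 1
  ext k l
  simp [vecMulVec_apply, single_apply, Pi.single_apply]
  aesop

end CfsgLib.RegUnip
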