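import Cfsg.Agent.Lib.RegUnip.TwoGenMain

/-!
`SL_n(q)`, `n ≥ 4`, is generated by two conjugate regular unipotent elements.
-/

set_option autoImplicit false

namespace CfsgLib.RegUnip.TwoGen

open Matrix

variable {F : Type*} [Field F] {n : ℕ} [NeZero n]

/-- Build a `Setup` from a functional. -/
theorem exists_setup (f : Fin n → F) (τ : F) (h0 : phi f 0 = 0) (hm1 : phi f (-1) = 0)
    (hm2 : phi f (-2) = 0) (h1 : phi f 1 = 1) :
    ∃ S : Setup F n, S.f = f ∧ S.τ = τ ∧
      S.G = Subgroup.closure ({regUnip n F, S.t * regUnip n F * S.t⁻¹} :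
        Set (SpecialLinearGroup (Fin n) F)) := by
  have hdet : (1 + vecMulVec (ai n F 0) (τ • fi f 0)).det = 1 := by
    rw [vecMulVec_eq Unit, det_one_add_replicateCol_mul_replicateRow, smul_dotProduct, pair,
      sub_self, h0, smul_zero, add_zero]
  let t : SpecialLinearGroup (Fin n) F := ⟨_, hdet⟩
  exact ⟨⟨Subgroup.closure ({regUnip n F, t * regUnip n F * t⁻¹} :
      Set (SpecialLinearGroup (Fin n) F)), f, τ, t, rfl,
    Subgroup.subset_closure (Set.mem_insert _ _),
    Subgroup.subset_closure (Set.mem_insert_of_mem _ (Set.mem_singleton _)), h0, hm1, hm2, h1⟩,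
    rfl, rfl, rfl⟩

namespace Setup

variable (S : Setup F n)

/-- Transvections for all scalar multiples of the functionals of a family give the combinations. -/
theorem hasTransvec_sum {ι : Type*} (s : Finset ι) (c : ι → F) (g : ι → (Fin n → F))
    (hg : ∀ k ∈ s, g k ⬝ᵥ ai n F 0 = 0)
    (h : ∀ k ∈ s, HasTransvec S.G (ai n F 0) (c k • g k)) :
    HasTransvec S.G (ai n F 0) (∑ k ∈ s, c k • g k) := by
  classical
  induction s using Finset.induction_on with
  | empty => simpa using HasTransvec.zero_right _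
  | insert a s ha ih =>
    rw [Finset.sum_insert ha]
    refine HasTransvec.add_right ?_ (h a (Finset.mem_insert_self _ _))
      (ih (fun k hk => hg k (Finset.mem_insert_of_mem hk))
        (fun k hk => h k (Finset.mem_insert_of_mem hk)))
    rw [smul_dotProduct, hg a (Finset.mem_insert_self _ _), smul_zero]

/-- The window `η, 0, …, 0, 1` with `η = 0`. -/
theorem eq_top_zero_window (hn : 2 ≤ n)
    (hz : ∀ k : ℕ, k ≤ n - 2 → phi S.f (-(k : ℤ)) = 0)
    (hd : S.f ⬝ᵥ (shiftMat n F ^ (n - 1) *ᵥ ai n F 0) ≠ 0)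
    (hlast : phi S.f (-((n : ℤ) - 1)) ≠ 0)
    (hall : ∀ (k : ℕ) (x : F), k ≤ n - 2 → S.T x k) : S.G = ⊤ := by
  haveI : Fact (2 ≤ n) := ⟨hn⟩
  refine S.eq_top fun g hg => ?_
  obtain ⟨c, rfl⟩ := S.exists_combination hd g
  let last : Fin n := ⟨n - 1, by omega⟩
  have hlow : ∀ k : Fin n, k ≠ last → k.val ≤ n - 2 := by
    intro k hk
    have : k.val ≠ n - 1 := fun e => hk (Fin.ext e)
    omega
  have hc : c last = 0 := by
    rw [sum_dotProduct, Finset.sum_eq_single last ?_ (by simp)] at hg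
    · rw [smul_dotProduct, pair, zero_sub, smul_eq_mul] at hg
      refine (mul_eq_zero.1 hg).resolve_right ?_
      simpa [last, Nat.cast_sub (show 1 ≤ n by omega)] using hlast
    · intro k _ hk
      rw [smul_dotProduct, pair, zero_sub, hz k.val (hlow k hk), smul_zero]
  rw [← Finset.sum_erase_add _ _ (Finset.mem_univ last), hc, zero_smul, add_zero]
  refine S.hasTransvec_sum _ _ _ (fun k hk => ?_) (fun k hk => ?_)
  · rw [pair, zero_sub, hz k.val (hlow k (Finset.ne_of_mem_erase hk))]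
  · exact hall k.val _ (hlow k (Finset.ne_of_mem_erase hk))

end Setup

variable [Fintype F]

theorem zero_window_functional (hn : 4 ≤ n) :
    ∃ f : Fin n → F, (∀ k : ℕ, k ≤ n - 2 → phi f (-(k : ℤ)) = 0) ∧ phi f 1 = 1 ∧
      f ⬝ᵥ (shiftMat n F ^ (n - 1) *ᵥ ai n F 0) = 1 ∧
      phi f (-((n : ℤ) - 1)) = (-1) ^ (n - 1) := by
  classical
  obtain ⟨f, hf⟩ := exists_functional (n := n) (2 - (n : ℤ))
    (fun k : Fin n => if k.val = n - 1 then (1 : F) else 0)
  have hv : ∀ (m : ℤ), 2 - (n : ℤ) ≤ m → m ≤ 1 → phi f m = if m = 1 then 1 else 0 := by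
    intro m h1 h2
    obtain ⟨k, hk⟩ : ∃ k : ℕ, (k : ℤ) = m - (2 - (n : ℤ)) := ⟨(m - (2 - (n : ℤ))).toNat, by omega⟩
    have := hf ⟨k, by omega⟩
    simp only [hk, add_sub_cancel] at this
    rw [this]
    split_ifs <;> first
      | rfl
      | omega
  have hz : ∀ k : ℕ, k ≤ n - 2 → phi f (-(k : ℤ)) = 0 := by
    intro k hk
    rw [hv _ (by omega) (by omega), if_neg (by omega)]
  have h1 : phi f 1 = 1 := by rw [hv 1 (by omega) le_rfl, if_pos rfl]
  have hd : f ⬝ᵥ (shiftMat n F ^ (n - 1) *ᵥ ai n F 0) = 1 := by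
    rw [← diff_const f (2 - (n : ℤ)), Finset.sum_eq_single (n - 1)]
    · rw [show (2 : ℤ) - n + ((n - 1 : ℕ) : ℤ) = 1 by omega, h1, Nat.choose_self,
        Even.neg_one_pow ⟨n - 1, rfl⟩]
      simp
    · intro i hi hne
      rw [Finset.mem_range] at hi
      rw [hv _ (by omega) (by omega), if_neg (by omega), mul_zero]
    · intro h; exact absurd (Finset.mem_range.2 (by omega)) h
  refine ⟨f, hz, h1, hd, ?_⟩
  have h := diff_const f (1 - (n : ℤ))
  rw [hd, Finset.sum_eq_single 0] at h
  · simp only [zero_add, Nat.choose_zero_right, Nat.cast_one, mul_one, Nat.cast_zero, add_zero] at h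
    rw [show -((n : ℤ) - 1) = 1 - (n : ℤ) by ring]
    have hsq : ((-1 : F) ^ (n - 1)) * (-1) ^ (n - 1) = 1 := by
      rw [← pow_add, Even.neg_one_pow ⟨n - 1, rfl⟩]
    calc phi f (1 - (n : ℤ)) = ((-1 : F) ^ (n - 1) * (-1) ^ (n - 1)) * phi f (1 - (n : ℤ)) := by
          rw [hsq, one_mul]
      _ = (-1) ^ (n - 1) := by rw [mul_assoc, h, mul_one]
  · intro i hi hne
    rw [Finset.mem_range] at hi
    rw [hv _ (by omega) (by omega), if_neg (by omega), mul_zero]
  · intro h0; exact absurd (Finset.mem_range.2 (by omega)) h0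

/-- The prime field case. -/
theorem prime_case (hn : 4 ≤ n) (hq : (Fintype.card F).Prime) :
    ∃ t : SpecialLinearGroup (Fin n) F,
      Subgroup.closure ({regUnip n F, t * regUnip n F * t⁻¹} :
        Set (SpecialLinearGroup (Fin n) F)) = ⊤ := by
  obtain ⟨f, hz, h1, hd, hlast⟩ := zero_window_functional (F := F) hn
  obtain ⟨S, hSf, hSτ, hSG⟩ := exists_setup f (1 : F) (by simpa using hz 0 (by omega))
    (by simpa using hz 1 (by omega)) (by simpa using hz 2 (by omega)) h1
  refine ⟨S.t, ?_⟩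
  rw [← hSG]
  subst hSf
  have hlast0 : phi S.f (-((n : ℤ) - 1)) ≠ 0 := by
    rw [hlast]; exact pow_ne_zero _ (neg_ne_zero.2 one_ne_zero)
  refine S.eq_top_zero_window (by omega) hz (by rw [hd]; exact one_ne_zero) hlast0 ?_
  haveI : Fact (Fintype.card F).Prime := ⟨hq⟩
  haveI : CharP F (Fintype.card F) := charP_of_card_eq_prime rfl
  have hfull : ∀ (k : ℕ), k ≤ n - 2 → (∃ x : F, x ≠ 0 ∧ S.T x k) → ∀ y : F, S.T y k := by
    rintro k hk ⟨x, hx, hT⟩ y
    obtain ⟨m, hm⟩ : ∃ m : ℕ, (m : F) = y * x⁻¹ := by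
      have hbij : Function.Bijective (fun i : Fin (Fintype.card F) => ((i.val : ℕ) : F)) := by
        refine (Fintype.bijective_iff_injective_and_card _).2 ⟨fun a b hab => ?_, by simp⟩
        apply Fin.ext
        exact Nat.ModEq.eq_of_lt_of_lt ((CharP.natCast_eq_natCast F (Fintype.card F)).1 hab) a.isLt b.isLt
      obtain ⟨i, hi⟩ := hbij.2 (y * x⁻¹)
      exact ⟨_, hi⟩
    have := S.T_nat (hz k hk) hT m
    rwa [hm, inv_mul_cancel_right₀ hx] at this
  have hup : ∀ k : ℕ, k + 2 ≤ n - 2 → S.T 1 ((k + 2 : ℕ) : ℤ) := by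
    intro k
    induction k with
    | zero =>
      intro _
      have := S.T_base
      simpa [hSτ] using this
    | succ k ih =>
      intro hk
      have := S.T_step (hz (k + 2) (by omega))
        (by simpa [add_comm, add_left_comm, add_assoc] using hz (k + 3) (by omega)) (ih (by omega))
      simpa [hSτ, add_assoc] using this
  have htop : S.T 1 ((n - 2 : ℕ) : ℤ) := by
    have := hup (n - 4) (by omega)
    rwa [show n - 4 + 2 = n - 2 by omega] at this
  have h2 : S.T 1 ((2 : ℕ) : ℤ) := hup 0 (by omega)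
  have hone : S.T (phi S.f (-((n : ℤ) - 1))) ((1 : ℕ) : ℤ) := by
    have := S.T_comm (-1) (hz (n - 2) le_rfl) (hz 2 (by omega))
      (by simpa using hz 1 (by omega)) htop h2
    rw [show (-1 : ℤ) - ((n - 2 : ℕ) : ℤ) = -((n : ℤ) - 1) by omega] at this
    simpa using this
  have hzero : ∃ x : F, x ≠ 0 ∧ S.T x ((0 : ℕ) : ℤ) := by
    have := S.T_comm (-1) (hz (n - 2) le_rfl) (hz 1 (by omega))
      (by simpa using hz 0 (by omega)) htop hone
    rw [show (-1 : ℤ) - ((n - 2 : ℕ) : ℤ) = -((n : ℤ) - 1) by omega] at this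
    refine ⟨phi S.f (-((n : ℤ) - 1)) * phi S.f (-((n : ℤ) - 1)), mul_ne_zero hlast0 hlast0, ?_⟩
    simpa using this
  intro k x hk
  refine hfull k hk ?_ x
  rcases k with _ | _ | k
  · exact hzero
  · exact ⟨_, hlast0, hone⟩
  · exact ⟨1, one_ne_zero, hup k hk⟩

/-- The case `n = 4`. -/
theorem four_case (hn : n = 4) :
    ∃ t : SpecialLinearGroup (Fin n) F,
      Subgroup.closure ({regUnip n F, t * regUnip n F * t⁻¹} :
        Set (SpecialLinearGroup (Fin n) F)) = ⊤ := by
  subst hn
  obtain ⟨ω, hω⟩ := IsCyclic.exists_generator (α := Fˣ)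
  obtain ⟨f, hz, h1, hd, hlast⟩ := zero_window_functional (F := F) (n := 4) le_rfl
  obtain ⟨S, hSf, hSτ, hSG⟩ := exists_setup f (ω : F) (by simpa using hz 0 (by omega))
    (by simpa using hz 1 (by omega)) (by simpa using hz 2 (by omega)) h1
  refine ⟨S.t, ?_⟩
  rw [← hSG]
  subst hSf
  have e3 : phi S.f (-3) = -1 := by
    rw [show (-3 : ℤ) = -((4 : ℕ) - 1 : ℤ) by norm_num, hlast]; norm_num
  have e4 : phi S.f 2 = 4 := by
    have h := diff_const S.f (-1)
    rw [hd] at h
    simp only [Finset.sum_range_succ, Finset.sum_range_zero] at h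
    norm_num [Nat.choose, S.h0, S.h1, S.hm1] at h
    linear_combination h
  have ω0 : (ω : F) ≠ 0 := Units.ne_zero ω
  have z0 : phi S.f (-0) = 0 := by rw [neg_zero]; exact S.h0
  have z1 : phi S.f (-1) = 0 := S.hm1
  have z2 : phi S.f (-2) = 0 := S.hm2
  have hX : S.T ((ω : F) ^ 3) 2 := hSτ ▸ S.T_base
  have YX : ∀ x y, S.T x 2 → S.T y 2 → S.T (x * y) 1 := by
    intro x y hx hy
    have := S.T_comm (-1) z2 z2 (by simpa using z1) hx hy
    rw [show (-1 : ℤ) - 2 = -3 by norm_num, e3, show (-1 : ℤ) + 2 = 1 by norm_num] at this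
    have := S.T_neg z1 this
    simpa using this
  have XY : ∀ y, S.T y 1 → S.T ((ω : F) * y) 2 := by
    intro y hy
    have := S.T_step (i := 1) z1 (by norm_num; exact z2) hy
    rw [hSτ] at this
    simpa using this
  have ZYX : ∀ y x, S.T y 1 → S.T x 2 → S.T (y * x) 0 := by
    intro y x hy hx
    have := S.T_comm (-2) z1 z2 (by simpa using z0) hy hx
    rw [show (-2 : ℤ) - 1 = -3 by norm_num, e3, show (-2 : ℤ) + 2 = 0 by norm_num] at this
    have := S.T_neg z0 this
    simpa using this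
  have XZ : ∀ a b, S.T a 0 → S.T b 0 → S.T (a * b * 4) 2 := by
    intro a b ha hb
    have := S.T_comm 2 z0 z0 (by simpa using z2) ha hb
    rw [sub_zero, e4, add_zero] at this
    exact this
  let X : Set F := {a | S.T (a * (ω : F)⁻¹) 2}
  have hXmul : ∀ a b, a ∈ X → b ∈ X → a * b ∈ X := by
    intro a b ha hb
    have := XY _ (YX _ _ ha hb)
    change S.T (a * b * (ω : F)⁻¹) 2
    convert this using 1
    field_simp
  have h44 : (ω : F) ^ 4 ∈ X := by
    change S.T _ 2
    convert hX using 1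
    field_simp
  have hωX : (ω : F) ∈ X := by
    obtain ⟨p, hp⟩ := CharP.exists F
    haveI : Fact p.Prime := ⟨CharP.char_is_prime F p⟩
    have hpow : ∀ m : ℕ, 0 < m → ∀ a, a ∈ X → a ^ m ∈ X := by
      intro m hm a ha
      induction m, hm using Nat.le_induction with
      | base => simpa using ha
      | succ m _ ih => rw [pow_succ]; exact hXmul _ _ ih ha
    rcases eq_or_ne p 2 with rfl | hp2
    · obtain ⟨k, -, hk⟩ := FiniteField.card F 2
      rcases Nat.lt_or_ge (k : ℕ) 2 with hk1 | hk2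
      · have hk1' : (k : ℕ) = 1 := by have := k.pos; omega
        have : (ω : F) = 1 := by
          have := FiniteField.pow_card_sub_one_eq_one (ω : F) ω0
          rwa [hk, hk1', show 2 ^ 1 - 1 = 1 from rfl, pow_one] at this
        rw [this, one_pow] at h44
        rwa [this]
      · have h := hpow (2 ^ ((k : ℕ) - 2)) (Nat.two_pow_pos _) _ h44
        rw [← pow_mul, show 4 * 2 ^ ((k : ℕ) - 2) = Fintype.card F by
          rw [hk, show (4 : ℕ) = 2 ^ 2 from rfl, ← pow_add, show 2 + ((k : ℕ) - 2) = (k : ℕ) by omega],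
          FiniteField.pow_card] at h
        exact h
    · have h2ne : (2 : F) ≠ 0 := by
        intro e
        have : p ∣ 2 := (CharP.cast_eq_zero_iff F p 2).1 (by exact_mod_cast e)
        exact hp2 ((Nat.prime_dvd_prime_iff_eq (Fact.out : p.Prime) Nat.prime_two).1 this)
      have h4ne : (4 : F) ≠ 0 := by
        rw [show (4 : F) = 2 * 2 by norm_num]; exact mul_ne_zero h2ne h2ne
      obtain ⟨m, hm⟩ : ∃ m : ℕ, (m : F) * 4 = 1 := by
        refine ⟨((4 : ZMod p)⁻¹).val, ?_⟩
        have h4 : (4 : ZMod p) ≠ 0 := by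
          intro e
          apply h4ne
          have := congrArg (ZMod.castHom (dvd_refl p) F) e
          rwa [map_ofNat, map_zero] at this
        have := congrArg (ZMod.castHom (dvd_refl p) F) (inv_mul_cancel₀ h4)
        rw [map_mul, map_one, map_ofNat, ZMod.castHom_apply] at this
        rwa [ZMod.natCast_val]
      have h9 : S.T ((ω : F) ^ 9) 0 := by
        have := ZYX _ _ (YX _ _ hX hX) hX
        rwa [show (ω : F) ^ 3 * (ω : F) ^ 3 * (ω : F) ^ 3 = (ω : F) ^ 9 by ring] at this
      have h19 : (ω : F) ^ 19 ∈ X := by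
        change S.T _ 2
        have := S.T_nat z2 (XZ _ _ h9 h9) m
        convert this using 1
        field_simp
        linear_combination -hm
      have hN := pow_orderOf_eq_one ω
      have hNpos := orderOf_pos ω
      set N := orderOf ω
      rcases Nat.lt_or_ge N 2 with hN1 | hN2
      · have : ω = 1 := by
          rwa [show N = 1 by omega, pow_one] at hN
        rw [this, Units.val_one, one_pow] at h44
        rwa [this, Units.val_one]
      · have h := hXmul _ _ (hpow 5 (by norm_num) _ h44) (hpow (N - 1) (by omega) _ h19)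
        rw [← pow_mul, ← pow_mul, ← pow_add] at h
        have e : 4 * 5 + 19 * (N - 1) = 1 + 19 * N := by omega
        rw [e, pow_add, pow_one, mul_comm 19 N, pow_mul, ← Units.val_pow_eq_pow_val, hN,
          Units.val_one, one_pow, mul_one] at h
        exact h
  have hXall : ∀ x, S.T x 2 := by
    intro x
    have := eq_univ_of_closed X (by change S.T _ 2; rw [zero_mul]; exact S.T_zero _) hXmul ω hω hωX
      (x * (ω : F))
    change S.T _ 2 at this
    rwa [mul_inv_cancel_right₀ ω0] at this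
  have hY : ∀ x, S.T x 1 := fun x => by simpa using YX x 1 (hXall x) (hXall 1)
  have hZ : ∀ x, S.T x 0 := fun x => by simpa using ZYX x 1 (hY x) (hXall 1)
  refine S.eq_top_zero_window (by omega) hz (by rw [hd]; exact one_ne_zero) ?_ ?_
  · rw [hlast]; exact pow_ne_zero _ (neg_ne_zero.2 one_ne_zero)
  · intro k x hk
    rcases k with _ | _ | _ | k
    · simpa using hZ x
    · simpa using hY x
    · simpa using hXall x
    · omega

/-- The case `n ≥ 5`, field not of prime order. -/
theorem general_case (hn : 5 ≤ n) (hq : ¬ (Fintype.card F).Prime) :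
    ∃ t : SpecialLinearGroup (Fin n) F,
      Subgroup.closure ({regUnip n F, t * regUnip n F * t⁻¹} :
        Set (SpecialLinearGroup (Fin n) F)) = ⊤ := by
  classical
  obtain ⟨ω, hω⟩ := IsCyclic.exists_generator (α := Fˣ)
  obtain ⟨f, hf⟩ := exists_functional (n := n) (2 - (n : ℤ))
    (fun k : Fin n => if k.val = 0 then (ω : F) else if k.val = n - 1 then 1 else 0)
  have hv : ∀ (m : ℤ), 2 - (n : ℤ) ≤ m → m ≤ 1 →
      phi f m = if m = 2 - (n : ℤ) then (ω : F) else if m = 1 then 1 else 0 := by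
    intro m h1 h2
    obtain ⟨k, hk⟩ : ∃ k : ℕ, (k : ℤ) = m - (2 - (n : ℤ)) := ⟨(m - (2 - (n : ℤ))).toNat, by omega⟩
    have := hf ⟨k, by omega⟩
    simp only [hk, add_sub_cancel] at this
    rw [this]
    split_ifs <;> first
      | rfl
      | omega
  have hz : ∀ m : ℤ, 3 - (n : ℤ) ≤ m → m ≤ 0 → phi f m = 0 := by
    intro m h1 h2
    rw [hv m (by omega) (by omega), if_neg (by omega), if_neg (by omega)]
  have h1 : phi f 1 = 1 := by rw [hv 1 (by omega) le_rfl, if_neg (by omega), if_pos rfl]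
  have hη : phi f (2 - (n : ℤ)) = (ω : F) := by rw [hv _ le_rfl (by omega), if_pos rfl]
  obtain ⟨S, hSf, hSτ, hSG⟩ := exists_setup f (1 : F) (hz 0 (by omega) le_rfl)
    (hz _ (by omega) (by omega)) (hz _ (by omega) (by omega)) h1
  refine ⟨S.t, ?_⟩
  rw [← hSG]
  subst hSf
  have ω0 : (ω : F) ≠ 0 := Units.ne_zero ω
  have hd : S.f ⬝ᵥ (shiftMat n F ^ (n - 1) *ᵥ ai n F 0) ≠ 0 := by
    rw [← diff_const S.f (2 - (n : ℤ)),
      Finset.sum_eq_add_of_mem 0 (n - 1) (by simp; omega) (by simp; omega) (by omega)]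
    · rw [Nat.cast_zero, add_zero, hη, show (2 : ℤ) - n + ((n - 1 : ℕ) : ℤ) = 1 by omega, h1,
        Nat.choose_self, Nat.choose_zero_right, Even.neg_one_pow ⟨n - 1, rfl⟩]
      intro e
      apply hq
      simp only [zero_add, Nat.cast_one, mul_one] at e
      have hωpm : ((ω : F)) ^ 2 = 1 := by
        have h' : (-1 : F) ^ (n - 1) * (ω : F) = -1 := eq_neg_of_add_eq_zero_left e
        have := congrArg (fun z => z ^ 2) h'
        simpa [mul_pow, ← pow_mul, Even.neg_one_pow (show Even ((n - 1) * 2) from ⟨n - 1, by ring⟩)]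
          using this
      have hle := Nat.le_of_dvd two_pos (orderOf_dvd_of_pow_eq_one
        (show ω ^ 2 = 1 from Units.ext (by simpa using hωpm)))
      rw [orderOf_eq_card_of_forall_mem_zpowers hω, Nat.card_eq_fintype_card, Fintype.card_units] at hle
      have := Fintype.one_lt_card (α := F)
      have : Fintype.card F ≤ 3 := by omega
      interval_cases hc : Fintype.card F <;> norm_num
    · intro c hc hne
      rw [Finset.mem_range] at hc
      rw [hz _ (by omega) (by omega), mul_zero]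
  have hzn : ∀ k : ℕ, k ≤ n - 3 → phi S.f (-(k : ℤ)) = 0 :=
    fun k hk => hz _ (by omega) (by omega)
  -- steps upwards
  have hup : ∀ (x : F) (i j : ℕ), i ≤ j → j ≤ n - 3 → S.T x i → S.T x j := by
    intro x i j hij hj hx
    induction j, hij using Nat.le_induction with
    | base => exact hx
    | succ j _ ih =>
      have := S.T_step (hzn j (by omega)) (by simpa using hzn (j + 1) hj) (ih (by omega))
      simpa [hSτ] using this
  have h2 : S.T 1 ((2 : ℕ) : ℤ) := by
    have := S.T_base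
    simpa [hSτ] using this
  have htop : S.T 1 ((n - 3 : ℕ) : ℤ) := hup _ 2 _ (by omega) le_rfl h2
  have hdown : ∀ x y, S.T x ((n - 3 : ℕ) : ℤ) → S.T y ((2 : ℕ) : ℤ) →
      S.T (x * y * (ω : F)) ((1 : ℕ) : ℤ) := by
    intro x y hx hy
    have := S.T_comm (-1) (hzn (n - 3) le_rfl) (hzn 2 (by omega))
      (by simpa using hzn 1 (by omega)) hx hy
    rw [show (-1 : ℤ) - ((n - 3 : ℕ) : ℤ) = 2 - (n : ℤ) by omega, hη] at this
    simpa using this
  let Y : Set F := {a | S.T (a * 1) ((1 : ℕ) : ℤ)}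
  have hω1 : (ω : F) ∈ Y := by
    have := hdown 1 1 htop h2
    simpa [Y] using this
  have hYmul' : ∀ a b, a ∈ Y → S.T b ((2 : ℕ) : ℤ) → a * b * (ω : F) ∈ Y := by
    intro a b ha hb
    simp only [Y, Set.mem_setOf_eq, mul_one] at ha ⊢
    exact hdown a b (hup _ 1 _ (by omega) le_rfl ha) hb
  have hωpow : ∀ k : ℕ, (ω : F) ^ (k + 1) ∈ Y := by
    intro k
    induction k with
    | zero => simpa using hω1
    | succ k ih =>
      have := hYmul' _ 1 ih h2
      rwa [mul_one, ← pow_succ] at this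
  have hone : ∀ (x : F) (k : ℕ), 1 ≤ k → k ≤ n - 3 → S.T x k := by
    intro x k hk1 hk
    refine hup x 1 k hk1 hk ?_
    rcases eq_or_ne x 0 with rfl | hx
    · exact S.T_zero _
    · obtain ⟨m, hm⟩ := mem_powers_iff_mem_zpowers.2 (hω (Units.mk0 x hx))
      have hm' : (ω : F) ^ m = x := by simpa using congrArg Units.val hm
      have h := hωpow (m + (orderOf ω - 1))
      simp only [Y, Set.mem_setOf_eq, mul_one] at h
      rw [show m + (orderOf ω - 1) + 1 = m + orderOf ω by have := orderOf_pos ω; omega, pow_add,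
        ← Units.val_pow_eq_pow_val ω (orderOf ω), pow_orderOf_eq_one, Units.val_one, mul_one,
        hm'] at h
      exact h
  have hzero : ∀ x : F, S.T x ((0 : ℕ) : ℤ) := by
    intro x
    have := S.T_comm (-2) (hzn (n - 4) (by omega)) (hzn 2 (by omega))
      (by simpa using hzn 0 (by omega)) (hone (x * (ω : F)⁻¹) (n - 4) (by omega) (by omega))
      (hone 1 2 (by omega) (by omega))
    rw [show (-2 : ℤ) - ((n - 4 : ℕ) : ℤ) = 2 - (n : ℤ) by omega, hη] at this
    simpa [inv_mul_cancel_right₀ ω0] using this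
  have hall : ∀ (k : ℕ) (x : F), k ≤ n - 3 → S.T x k := by
    intro k x hk
    rcases k with _ | k
    · exact hzero x
    · exact hone x _ (by omega) hk
  -- the combination `h = φ(1-n) f_{n-2} - ω f_{n-1}`
  let cst : F := phi S.f (1 - (n : ℤ))
  let hvec : Fin n → F := cst • fi S.f ((n : ℤ) - 2) + (-(ω : F)) • fi S.f ((n : ℤ) - 1)
  have horth : hvec ⬝ᵥ ai n F 0 = 0 := by
    simp only [hvec, add_dotProduct, smul_dotProduct, pair, zero_sub, neg_sub, smul_eq_mul]
    rw [hη]; simp only [cst]; ring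
  have hhvec : ∀ x : F, HasTransvec S.G (ai n F 0) (x • hvec) := by
    intro x
    have hsum : HasTransvec S.G (ai n F 0)
        ((x * cst) • fi S.f ((n - 4 : ℕ) : ℤ) + (x * -(ω : F)) • fi S.f ((n - 3 : ℕ) : ℤ)) :=
      (hall (n - 4) _ (by omega)).add_right (S.T_orth (hzn _ (by omega)) _) (hall (n - 3) _ le_rfl)
    have h' := HasTransvec.conj (zpow_mem S.hu (2 : ℤ)) hsum
    rw [Setup.inv_up] at h'
    change HasTransvec S.G (up n F 2 *ᵥ _) _ at h'
    rw [up_mulVec_ai, add_vecMul, smul_vecMul, smul_vecMul, fi_vecMul_up, fi_vecMul_up, add_zero,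
      show ((n - 4 : ℕ) : ℤ) + 2 = (n : ℤ) - 2 by omega,
      show ((n - 3 : ℕ) : ℤ) + 2 = (n : ℤ) - 1 by omega] at h'
    have hx : (x * cst) • fi S.f ((n : ℤ) - 2) + (x * -(ω : F)) • fi S.f ((n : ℤ) - 1) = x • hvec := by
      simp only [hvec, smul_add, smul_smul]
    rw [hx] at h'
    have hga : (x • hvec) ⬝ᵥ ai n F 0 = 0 := by rw [smul_dotProduct, horth, smul_zero]
    have hgb : (x • hvec) ⬝ᵥ ai n F 2 = 0 := by
      simp only [hvec, smul_dotProduct, add_dotProduct, pair]
      rw [hz (2 - ((n : ℤ) - 2)) (by omega) (by omega), hz (2 - ((n : ℤ) - 1)) (by omega) (by omega)]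
      simp
    have hT1 : HasTransvec S.G (ai n F 0) ((1 : F) • fi S.f ((1 : ℕ) : ℤ)) := hall 1 1 (by omega)
    have := HasTransvec.commutator hga (S.T_orth (hzn 1 (by omega)) 1) hgb hT1 h'
    rwa [smul_dotProduct, pair, show (2 : ℤ) - ((1 : ℕ) : ℤ) = 1 by norm_num, S.h1, smul_eq_mul,
      mul_one, one_smul] at this
  haveI : Fact (2 ≤ n) := ⟨by omega⟩
  refine S.eq_top fun g hg => ?_
  obtain ⟨c, rfl⟩ := S.exists_combination hd g
  let l1 : Fin n := ⟨n - 1, by omega⟩
  let l2 : Fin n := ⟨n - 2, by omega⟩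
  have hne : l2 ≠ l1 := Fin.ne_of_val_ne (show n - 2 ≠ n - 1 by omega)
  have hlow : ∀ k : Fin n, k ≠ l1 → k ≠ l2 → k.val ≤ n - 3 := by
    intro k h1' h2'
    have e1 : k.val ≠ n - 1 := fun e => h1' (Fin.ext e)
    have e2 : k.val ≠ n - 2 := fun e => h2' (Fin.ext e)
    omega
  have hsplit : ∑ k : Fin n, c k • fi S.f (k.val : ℤ) =
      (∑ k ∈ (Finset.univ.erase l1).erase l2, c k • fi S.f (k.val : ℤ)) +
        (c l2 • fi S.f ((n : ℤ) - 2) + c l1 • fi S.f ((n : ℤ) - 1)) := by
    rw [← Finset.sum_erase_add _ _ (Finset.mem_univ l1),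
      ← Finset.sum_erase_add _ _ (Finset.mem_erase.2 ⟨hne, Finset.mem_univ l2⟩), add_assoc]
    simp only [l1, l2, Nat.cast_sub (show 1 ≤ n by omega), Nat.cast_sub (show 2 ≤ n by omega)]
    norm_num
  rw [hsplit] at hg ⊢
  have hlow' : ∀ k ∈ (Finset.univ.erase l1).erase l2,
      fi S.f (k.val : ℤ) ⬝ᵥ ai n F 0 = 0 := by
    intro k hk
    rw [pair, zero_sub]
    exact hzn _ (hlow k (Finset.ne_of_mem_erase (Finset.mem_of_mem_erase hk)) (Finset.ne_of_mem_erase hk))
  have hsum0 : (∑ k ∈ (Finset.univ.erase l1).erase l2, c k • fi S.f (k.val : ℤ)) ⬝ᵥ ai n F 0 = 0 := by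
    rw [sum_dotProduct]
    exact Finset.sum_eq_zero fun k hk => by rw [smul_dotProduct, hlow' k hk, smul_zero]
  have hrel : c l2 * (ω : F) + c l1 * cst = 0 := by
    rw [add_dotProduct, hsum0, zero_add, add_dotProduct, smul_dotProduct, smul_dotProduct, pair,
      pair, zero_sub, zero_sub, neg_sub, neg_sub, hη, smul_eq_mul, smul_eq_mul] at hg
    exact hg
  refine HasTransvec.add_right hsum0 (S.hasTransvec_sum _ _ _ hlow' fun k hk => ?_) ?_
  · exact hall k.val _ (hlow k (Finset.ne_of_mem_erase (Finset.mem_of_mem_erase hk))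
      (Finset.ne_of_mem_erase hk))
  · convert hhvec (-(c l1) * (ω : F)⁻¹) using 1
    simp only [hvec, smul_add, smul_smul]
    congr 1
    · congr 1
      field_simp
      linear_combination hrel
    · congr 1
      field_simp

/-- `SL_n(q)`, `n ≥ 4`, is generated by two conjugates of the regular unipotent element. -/
theorem exists_two_generators (hn : 4 ≤ n) :
    ∃ t : SpecialLinearGroup (Fin n) F,
      Subgroup.closure ({regUnip n F, t * regUnip n F * t⁻¹} :
        Set (SpecialLinearGroup (Fin n) F)) = ⊤ := by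
  by_cases hq : (Fintype.card F).Prime
  · exact prime_case hn hq
  · rcases eq_or_lt_of_le hn with h | h
    · exact four_case h.symm
    · exact general_case h hq

end CfsgLib.RegUnip.TwoGen
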