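import Cfsg.Agent.Lib.RegUnip.SLn

/-!
`SL_3` over the fields with two and four elements is generated by two conjugate regular unipotent
elements: explicit certificates.
-/

set_option autoImplicit false

namespace CfsgLib.RegUnip.SmallSL3

open Matrix

/-- A `3 × 3` matrix over a table model of a small field. -/
abbrev Model (q : ℕ) := Fin 3 → Fin 3 → Fin q

def hMat2 : Model 2 := ![![0, 0, 1], ![0, 1, 1], ![1, 1, 0]]
def uMat2 : Model 2 := ![![1, 1, 0], ![0, 1, 1], ![0, 0, 1]]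
def vMat2 : Model 2 := ![![1, 0, 0], ![1, 1, 0], ![0, 1, 1]]

def chains2 : List (List (Bool × Model 2)) := [
  [(false, ![![1, 0, 0], ![1, 1, 0], ![0, 1, 1]]),
    (true, ![![1, 1, 0], ![1, 0, 1], ![0, 1, 0]]),
    (false, ![![0, 1, 0], ![1, 1, 1], ![1, 1, 0]]),
    (true, ![![0, 1, 1], ![1, 0, 0], ![1, 0, 1]]),
    (true, ![![0, 1, 0], ![1, 1, 0], ![1, 1, 1]]),
    (false, ![![1, 1, 0], ![0, 1, 0], ![0, 0, 1]])],
  [(true, ![![1, 1, 0], ![0, 1, 1], ![0, 0, 1]]),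
    (true, ![![1, 0, 1], ![0, 1, 0], ![0, 0, 1]])],
  [(true, ![![1, 1, 0], ![0, 1, 1], ![0, 0, 1]]),
    (false, ![![0, 1, 0], ![1, 0, 1], ![0, 1, 1]]),
    (false, ![![1, 1, 0], ![1, 1, 1], ![1, 0, 1]]),
    (true, ![![1, 0, 1], ![1, 0, 0], ![1, 1, 1]]),
    (false, ![![1, 1, 1], ![1, 0, 0], ![0, 0, 1]]),
    (true, ![![1, 0, 0], ![1, 1, 0], ![0, 0, 1]])],
  [(false, ![![1, 0, 0], ![1, 1, 0], ![0, 1, 1]]),
    (true, ![![1, 1, 0], ![1, 0, 1], ![0, 1, 0]]),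
    (true, ![![1, 0, 1], ![1, 1, 1], ![0, 1, 1]]),
    (false, ![![1, 1, 1], ![0, 0, 1], ![1, 0, 1]]),
    (true, ![![1, 0, 0], ![0, 0, 1], ![1, 1, 1]]),
    (false, ![![1, 0, 0], ![0, 1, 1], ![0, 0, 1]])],
  [(false, ![![1, 0, 0], ![1, 1, 0], ![0, 1, 1]]),
    (false, ![![1, 0, 0], ![0, 1, 0], ![1, 0, 1]])],
  [(true, ![![1, 1, 0], ![0, 1, 1], ![0, 0, 1]]),
    (false, ![![0, 1, 0], ![1, 0, 1], ![0, 1, 1]]),
    (true, ![![0, 1, 1], ![1, 1, 1], ![0, 1, 0]]),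
    (false, ![![1, 0, 1], ![0, 0, 1], ![1, 1, 0]]),
    (false, ![![1, 1, 1], ![0, 1, 1], ![0, 1, 0]]),
    (true, ![![1, 0, 0], ![0, 1, 0], ![0, 1, 1]])]]

def hMat4 : Model 4 := ![![0, 3, 3], ![2, 0, 3], ![2, 0, 2]]
def uMat4 : Model 4 := ![![1, 2, 0], ![0, 1, 2], ![0, 0, 1]]
def vMat4 : Model 4 := ![![1, 1, 1], ![1, 2, 3], ![1, 3, 2]]

def chains4 : List (List (Bool × Model 4)) := [
  [(true, ![![1, 2, 0], ![0, 1, 2], ![0, 0, 1]]),
    (true, ![![1, 0, 3], ![0, 1, 0], ![0, 0, 1]]),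
    (false, ![![2, 3, 0], ![1, 2, 3], ![1, 3, 2]]),
    (false, ![![1, 3, 0], ![0, 0, 1], ![0, 1, 0]]),
    (true, ![![1, 1, 1], ![0, 0, 1], ![0, 1, 2]]),
    (true, ![![1, 3, 3], ![0, 0, 1], ![0, 1, 0]]),
    (true, ![![1, 1, 2], ![0, 0, 1], ![0, 1, 2]]),
    (false, ![![2, 2, 1], ![1, 3, 2], ![3, 3, 0]]),
    (false, ![![1, 2, 1], ![0, 1, 0], ![0, 2, 1]]),
    (true, ![![1, 0, 2], ![0, 1, 2], ![0, 2, 2]]),
    (true, ![![1, 2, 2], ![0, 1, 0], ![0, 2, 1]]),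
    (false, ![![1, 3, 3], ![1, 2, 3], ![3, 0, 3]]),
    (false, ![![1, 2, 2], ![0, 0, 1], ![0, 1, 2]]),
    (true, ![![1, 0, 1], ![0, 0, 1], ![0, 1, 0]]),
    (false, ![![0, 2, 3], ![1, 3, 2], ![1, 2, 3]]),
    (false, ![![1, 1, 0], ![0, 1, 0], ![0, 0, 1]])],
  [(true, ![![1, 2, 0], ![0, 1, 2], ![0, 0, 1]]),
    (true, ![![1, 0, 3], ![0, 1, 0], ![0, 0, 1]]),
    (false, ![![2, 3, 0], ![1, 2, 3], ![1, 3, 2]]),
    (false, ![![1, 3, 0], ![0, 0, 1], ![0, 1, 0]]),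
    (true, ![![1, 1, 1], ![0, 0, 1], ![0, 1, 2]]),
    (false, ![![1, 0, 0], ![1, 3, 2], ![3, 3, 0]]),
    (false, ![![1, 1, 1], ![0, 1, 0], ![0, 2, 1]]),
    (true, ![![1, 3, 3], ![0, 1, 2], ![0, 2, 2]]),
    (true, ![![1, 1, 2], ![0, 1, 0], ![0, 2, 1]]),
    (false, ![![2, 2, 1], ![1, 2, 3], ![3, 0, 3]]),
    (false, ![![1, 2, 1], ![0, 0, 1], ![0, 1, 2]]),
    (true, ![![1, 0, 2], ![0, 0, 1], ![0, 1, 0]]),
    (false, ![![3, 0, 2], ![1, 3, 2], ![1, 2, 3]]),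
    (false, ![![1, 2, 0], ![0, 1, 0], ![0, 0, 1]])],
  [(true, ![![1, 2, 0], ![0, 1, 2], ![0, 0, 1]]),
    (true, ![![1, 0, 3], ![0, 1, 0], ![0, 0, 1]]),
    (true, ![![1, 2, 3], ![0, 1, 2], ![0, 0, 1]]),
    (false, ![![0, 0, 1], ![3, 3, 0], ![1, 3, 2]]),
    (false, ![![1, 3, 2], ![0, 2, 1], ![0, 1, 0]]),
    (true, ![![1, 1, 3], ![0, 2, 2], ![0, 1, 2]]),
    (true, ![![1, 3, 1], ![0, 2, 1], ![0, 1, 0]]),
    (false, ![![3, 3, 1], ![3, 0, 3], ![1, 2, 3]]),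
    (false, ![![1, 1, 3], ![0, 1, 2], ![0, 0, 1]]),
    (true, ![![1, 3, 1], ![0, 1, 0], ![0, 0, 1]]),
    (false, ![![3, 3, 1], ![1, 2, 3], ![1, 3, 2]]),
    (false, ![![1, 1, 3], ![0, 0, 1], ![0, 1, 0]]),
    (true, ![![1, 3, 1], ![0, 0, 1], ![0, 1, 2]]),
    (true, ![![1, 1, 0], ![0, 0, 1], ![0, 1, 0]]),
    (false, ![![0, 3, 2], ![1, 3, 2], ![1, 2, 3]]),
    (false, ![![1, 0, 1], ![0, 1, 0], ![0, 0, 1]])],
  [(true, ![![1, 2, 0], ![0, 1, 2], ![0, 0, 1]]),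
    (false, ![![3, 2, 0], ![3, 3, 0], ![1, 3, 2]]),
    (false, ![![1, 0, 2], ![0, 2, 1], ![0, 1, 0]]),
    (true, ![![1, 2, 2], ![0, 2, 2], ![0, 1, 2]]),
    (true, ![![1, 0, 1], ![0, 2, 1], ![0, 1, 0]]),
    (false, ![![0, 2, 3], ![3, 0, 3], ![1, 2, 3]]),
    (false, ![![1, 1, 0], ![0, 1, 2], ![0, 0, 1]]),
    (true, ![![1, 3, 2], ![0, 1, 0], ![0, 0, 1]]),
    (false, ![![0, 1, 0], ![1, 2, 3], ![1, 3, 2]]),
    (false, ![![1, 2, 3], ![0, 0, 1], ![0, 1, 0]]),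
    (true, ![![1, 0, 0], ![0, 0, 1], ![0, 1, 2]]),
    (true, ![![1, 2, 0], ![0, 0, 1], ![0, 1, 0]]),
    (false, ![![3, 2, 0], ![1, 3, 2], ![1, 2, 3]]),
    (false, ![![1, 0, 2], ![0, 1, 0], ![0, 0, 1]])],
  [(false, ![![1, 1, 1], ![1, 2, 3], ![1, 3, 2]]),
    (false, ![![1, 0, 0], ![0, 0, 1], ![0, 1, 0]]),
    (true, ![![1, 2, 0], ![0, 0, 1], ![0, 1, 2]]),
    (true, ![![1, 0, 3], ![0, 0, 1], ![0, 1, 0]]),
    (false, ![![2, 3, 0], ![1, 3, 2], ![1, 2, 3]]),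
    (true, ![![2, 0, 1], ![1, 1, 3], ![1, 0, 0]]),
    (true, ![![2, 3, 1], ![1, 3, 1], ![1, 2, 0]]),
    (false, ![![0, 0, 2], ![3, 3, 1], ![3, 2, 0]]),
    (true, ![![0, 0, 2], ![3, 2, 0], ![3, 3, 3]]),
    (false, ![![2, 1, 3], ![1, 0, 2], ![3, 0, 0]]),
    (true, ![![2, 2, 1], ![1, 2, 2], ![3, 1, 0]]),
    (true, ![![2, 1, 2], ![1, 0, 1], ![3, 0, 2]]),
    (false, ![![1, 1, 2], ![0, 2, 3], ![1, 2, 0]]),
    (true, ![![1, 3, 0], ![0, 2, 0], ![1, 0, 3]]),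
    (true, ![![1, 1, 1], ![0, 2, 3], ![1, 2, 3]]),
    (false, ![![1, 0, 0], ![1, 1, 0], ![0, 0, 1]])],
  [(true, ![![1, 2, 0], ![0, 1, 2], ![0, 0, 1]]),
    (false, ![![3, 2, 0], ![3, 3, 0], ![1, 3, 2]]),
    (false, ![![1, 0, 2], ![0, 2, 1], ![0, 1, 0]]),
    (true, ![![1, 2, 2], ![0, 2, 2], ![0, 1, 2]]),
    (true, ![![1, 0, 1], ![0, 2, 1], ![0, 1, 0]]),
    (true, ![![1, 2, 1], ![0, 2, 2], ![0, 1, 2]]),
    (false, ![![2, 1, 2], ![0, 2, 2], ![3, 3, 0]]),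
    (false, ![![1, 1, 2], ![0, 2, 2], ![0, 2, 1]]),
    (false, ![![2, 2, 1], ![0, 2, 2], ![3, 0, 3]]),
    (true, ![![2, 1, 2], ![0, 2, 1], ![3, 1, 3]]),
    (false, ![![1, 1, 2], ![3, 0, 3], ![1, 3, 1]]),
    (true, ![![1, 3, 0], ![3, 1, 3], ![1, 1, 0]]),
    (true, ![![1, 1, 1], ![3, 0, 1], ![1, 3, 2]]),
    (false, ![![1, 0, 0], ![2, 0, 1], ![0, 1, 0]]),
    (false, ![![1, 1, 1], ![3, 1, 0], ![1, 2, 3]]),
    (false, ![![1, 0, 0], ![2, 1, 0], ![0, 0, 1]])],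
  [(false, ![![1, 1, 1], ![1, 2, 3], ![1, 3, 2]]),
    (true, ![![1, 3, 3], ![1, 0, 0], ![1, 1, 3]]),
    (false, ![![1, 2, 2], ![1, 1, 1], ![3, 1, 3]]),
    (true, ![![1, 0, 1], ![1, 3, 3], ![3, 0, 1]]),
    (false, ![![0, 2, 3], ![1, 2, 2], ![2, 0, 1]]),
    (false, ![![1, 1, 0], ![1, 3, 3], ![3, 1, 0]]),
    (true, ![![1, 3, 2], ![1, 1, 2], ![3, 0, 2]]),
    (false, ![![0, 1, 0], ![2, 2, 1], ![1, 2, 0]]),
    (true, ![![0, 1, 2], ![2, 1, 2], ![1, 0, 3]]),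
    (true, ![![0, 1, 0], ![2, 2, 0], ![1, 2, 3]]),
    (false, ![![1, 2, 3], ![0, 1, 3], ![0, 0, 1]]),
    (true, ![![1, 0, 0], ![0, 1, 1], ![0, 0, 1]])],
  [(false, ![![1, 1, 1], ![1, 2, 3], ![1, 3, 2]]),
    (false, ![![1, 0, 0], ![0, 0, 1], ![0, 1, 0]]),
    (true, ![![1, 2, 0], ![0, 0, 1], ![0, 1, 2]]),
    (false, ![![3, 2, 0], ![1, 3, 2], ![3, 3, 0]]),
    (false, ![![1, 0, 2], ![0, 1, 0], ![0, 2, 1]]),
    (true, ![![1, 2, 2], ![0, 1, 2], ![0, 2, 2]]),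
    (true, ![![1, 0, 1], ![0, 1, 0], ![0, 2, 1]]),
    (false, ![![0, 2, 3], ![1, 2, 3], ![3, 0, 3]]),
    (false, ![![1, 1, 0], ![0, 0, 1], ![0, 1, 2]]),
    (true, ![![1, 3, 2], ![0, 0, 1], ![0, 1, 0]]),
    (false, ![![0, 1, 0], ![1, 3, 2], ![1, 2, 3]]),
    (false, ![![1, 2, 3], ![0, 1, 0], ![0, 0, 1]]),
    (true, ![![1, 0, 0], ![0, 1, 2], ![0, 0, 1]])],
  [(true, ![![1, 2, 0], ![0, 1, 2], ![0, 0, 1]]),
    (false, ![![3, 2, 0], ![3, 3, 0], ![1, 3, 2]]),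
    (false, ![![1, 0, 2], ![0, 2, 1], ![0, 1, 0]]),
    (true, ![![1, 2, 2], ![0, 2, 2], ![0, 1, 2]]),
    (false, ![![1, 3, 3], ![0, 2, 2], ![3, 3, 0]]),
    (false, ![![1, 2, 2], ![0, 2, 2], ![0, 2, 1]]),
    (false, ![![1, 3, 3], ![0, 2, 2], ![3, 0, 3]]),
    (true, ![![1, 1, 2], ![0, 2, 1], ![3, 1, 3]]),
    (false, ![![2, 2, 1], ![3, 0, 3], ![1, 3, 1]]),
    (true, ![![2, 1, 2], ![3, 1, 3], ![1, 1, 0]]),
    (false, ![![1, 1, 2], ![1, 3, 1], ![0, 3, 2]]),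
    (true, ![![1, 3, 0], ![1, 1, 0], ![0, 3, 3]]),
    (true, ![![1, 1, 1], ![1, 3, 2], ![0, 3, 2]]),
    (false, ![![1, 0, 0], ![0, 1, 0], ![1, 0, 1]])],
  [(false, ![![1, 1, 1], ![1, 2, 3], ![1, 3, 2]]),
    (true, ![![1, 3, 3], ![1, 0, 0], ![1, 1, 3]]),
    (false, ![![1, 2, 2], ![1, 1, 1], ![3, 1, 3]]),
    (true, ![![1, 0, 1], ![1, 3, 3], ![3, 0, 1]]),
    (false, ![![0, 2, 3], ![1, 2, 2], ![2, 0, 1]]),
    (false, ![![1, 1, 0], ![1, 3, 3], ![3, 1, 0]]),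
    (true, ![![1, 3, 2], ![1, 1, 2], ![3, 0, 2]]),
    (false, ![![0, 1, 0], ![2, 2, 1], ![1, 2, 0]]),
    (false, ![![1, 2, 3], ![1, 2, 1], ![3, 2, 0]]),
    (true, ![![1, 0, 0], ![1, 0, 2], ![3, 3, 3]]),
    (true, ![![1, 2, 0], ![1, 2, 2], ![3, 2, 2]]),
    (true, ![![1, 0, 3], ![1, 0, 1], ![3, 3, 1]]),
    (false, ![![2, 3, 0], ![0, 2, 3], ![1, 1, 3]]),
    (false, ![![1, 3, 0], ![1, 1, 0], ![3, 1, 3]]),
    (true, ![![1, 1, 1], ![1, 3, 2], ![3, 0, 1]]),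
    (false, ![![1, 0, 0], ![0, 1, 0], ![2, 0, 1]])],
  [(false, ![![1, 1, 1], ![1, 2, 3], ![1, 3, 2]]),
    (false, ![![1, 0, 0], ![0, 0, 1], ![0, 1, 0]]),
    (false, ![![1, 1, 1], ![1, 3, 2], ![1, 2, 3]]),
    (true, ![![1, 3, 3], ![1, 1, 3], ![1, 0, 0]]),
    (false, ![![1, 2, 2], ![3, 1, 3], ![1, 1, 1]]),
    (true, ![![1, 0, 1], ![3, 0, 1], ![1, 3, 3]]),
    (false, ![![0, 2, 3], ![2, 0, 1], ![1, 2, 2]]),
    (false, ![![1, 1, 0], ![3, 1, 0], ![1, 3, 3]]),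
    (true, ![![1, 3, 2], ![3, 0, 2], ![1, 1, 2]]),
    (false, ![![0, 1, 0], ![1, 2, 0], ![2, 2, 1]]),
    (true, ![![0, 1, 2], ![1, 0, 3], ![2, 1, 2]]),
    (true, ![![0, 1, 0], ![1, 2, 3], ![2, 2, 0]]),
    (false, ![![1, 2, 3], ![0, 0, 1], ![0, 1, 3]]),
    (true, ![![1, 0, 0], ![0, 0, 1], ![0, 1, 1]]),
    (false, ![![1, 1, 1], ![1, 3, 2], ![0, 1, 1]]),
    (false, ![![1, 0, 0], ![0, 1, 0], ![0, 1, 1]])],
  [(true, ![![1, 2, 0], ![0, 1, 2], ![0, 0, 1]]),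
    (false, ![![3, 2, 0], ![3, 3, 0], ![1, 3, 2]]),
    (false, ![![1, 0, 2], ![0, 2, 1], ![0, 1, 0]]),
    (true, ![![1, 2, 2], ![0, 2, 2], ![0, 1, 2]]),
    (true, ![![1, 0, 1], ![0, 2, 1], ![0, 1, 0]]),
    (false, ![![0, 2, 3], ![3, 0, 3], ![1, 2, 3]]),
    (false, ![![1, 1, 0], ![0, 1, 2], ![0, 0, 1]]),
    (true, ![![1, 3, 2], ![0, 1, 0], ![0, 0, 1]]),
    (false, ![![0, 1, 0], ![1, 2, 3], ![1, 3, 2]]),
    (false, ![![1, 2, 3], ![0, 0, 1], ![0, 1, 0]]),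
    (true, ![![1, 0, 0], ![0, 0, 1], ![0, 1, 2]]),
    (false, ![![1, 1, 1], ![1, 3, 2], ![3, 3, 0]]),
    (false, ![![1, 0, 0], ![0, 1, 0], ![0, 2, 1]])]]

def add2 : Fin 2 → Fin 2 → Fin 2 := fun a b => ![![0, 1], ![1, 0]] a b
def mul2 : Fin 2 → Fin 2 → Fin 2 := fun a b => ![![0, 0], ![0, 1]] a b
def add4 : Fin 4 → Fin 4 → Fin 4 :=
  fun a b => ![![0, 1, 2, 3], ![1, 0, 3, 2], ![2, 3, 0, 1], ![3, 2, 1, 0]] a b
def mul4 : Fin 4 → Fin 4 → Fin 4 :=
  fun a b => ![![0, 0, 0, 0], ![0, 1, 2, 3], ![0, 2, 3, 1], ![0, 3, 1, 2]] a b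

section

variable {q : ℕ} (add mul : Fin q → Fin q → Fin q)

/-- Product in the model. -/
def mm (A B : Model q) : Model q :=
  fun i j => add (add (mul (A i 0) (B 0 j)) (mul (A i 1) (B 1 j))) (mul (A i 2) (B 2 j))

/-- Equality test. -/
def eqb (A B : Model q) : Bool :=
  (List.finRange 3).all fun i => (List.finRange 3).all fun j => decide (A i j = B i j)

/-- Checks a chain of successive products by `u` (`true`) or `v` (`false`). -/
def chainOK (u v : Model q) : Model q → List (Bool × Model q) → Bool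
  | _, [] => true
  | P, (b, N) :: l => eqb (mm add mul P (if b then u else v)) N && chainOK u v N l

/-- The last matrix of a chain. -/
def chainEnd : Model q → List (Bool × Model q) → Model q
  | P, [] => P
  | _, (_, N) :: l => chainEnd N l

theorem eq_of_eqb {A B : Model q} (h : eqb A B = true) : A = B := by
  simp only [eqb, List.all_eq_true, decide_eq_true_eq] at h
  exact funext fun i => funext fun j => h i (List.mem_finRange i) j (List.mem_finRange j)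

variable {F : Type*} [Field F] (φ : Fin q → F)

/-- The matrix over the field attached to a model matrix. -/
def toM (A : Model q) : Matrix (Fin 3) (Fin 3) F := fun i j => φ (A i j)

variable {add mul φ}

theorem toM_mm (ha : ∀ a b, φ (add a b) = φ a + φ b) (hm : ∀ a b, φ (mul a b) = φ a * φ b)
    (A B : Model q) : toM φ (mm add mul A B) = toM φ A * toM φ B := by
  ext i j
  rw [Matrix.mul_apply, Fin.sum_univ_three]
  simp only [toM, mm, ha, hm]

theorem chainEnd_mem (ha : ∀ a b, φ (add a b) = φ a + φ b) (hm : ∀ a b, φ (mul a b) = φ a * φ b)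
    {G : Subgroup (SpecialLinearGroup (Fin 3) F)} {u v : Model q}
    (hu : ∃ g ∈ G, (g : Matrix (Fin 3) (Fin 3) F) = toM φ u)
    (hv : ∃ g ∈ G, (g : Matrix (Fin 3) (Fin 3) F) = toM φ v) :
    ∀ (l : List (Bool × Model q)) (P : Model q), chainOK add mul u v P l = true →
      (∃ g ∈ G, (g : Matrix (Fin 3) (Fin 3) F) = toM φ P) →
      ∃ g ∈ G, (g : Matrix (Fin 3) (Fin 3) F) = toM φ (chainEnd P l)
  | [], _, _, hP => hP
  | (b, N) :: l, P, h, ⟨p, hp, ep⟩ => by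
    rw [chainOK, Bool.and_eq_true] at h
    refine chainEnd_mem ha hm hu hv l N h.2 ?_
    rw [← eq_of_eqb h.1, toM_mm ha hm]
    cases b
    · obtain ⟨g, hg, eg⟩ := hv
      exact ⟨p * g, mul_mem hp hg, by rw [val_mul, ep, eg]; rfl⟩
    · obtain ⟨g, hg, eg⟩ := hu
      exact ⟨p * g, mul_mem hp hg, by rw [val_mul, ep, eg]; rfl⟩

end

def oneModel (q : ℕ) [NeZero q] : Model q := fun i j => if i = j then 1 else 0

/-- The elementary transvection in the model. -/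
def elemModel (q : ℕ) [NeZero q] (i j : Fin 3) (c : Fin q) : Model q :=
  fun a b => if a = i ∧ b = j then c else if a = b then 1 else 0

def offDiag : List (Fin 3 × Fin 3) := [(0, 1), (0, 2), (1, 0), (1, 2), (2, 0), (2, 1)]

theorem chains2_ok :
    (chains2.all fun l => chainOK add2 mul2 uMat2 vMat2 (oneModel 2) l) = true := by decide +kernel

theorem chains4_ok :
    (chains4.all fun l => chainOK add4 mul4 uMat4 vMat4 (oneModel 4) l) = true := by decide +kernel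

theorem targets2 :
    (offDiag.all fun ij => chains2.any fun l =>
      eqb (chainEnd (oneModel 2) l) (elemModel 2 ij.1 ij.2 1)) = true := by decide +kernel

theorem targets4 :
    (offDiag.all fun ij => chains4.any fun l =>
      eqb (chainEnd (oneModel 4) l) (elemModel 4 ij.1 ij.2 1)) = true ∧
    (offDiag.all fun ij => chains4.any fun l =>
      eqb (chainEnd (oneModel 4) l) (elemModel 4 ij.1 ij.2 2)) = true := by
  refine ⟨?_, ?_⟩ <;> decide +kernel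

theorem conj2 : eqb (mm add2 mul2 hMat2 uMat2) (mm add2 mul2 vMat2 hMat2) = true := by decide +kernel

theorem conj4 : eqb (mm add4 mul4 hMat4 uMat4) (mm add4 mul4 vMat4 hMat4) = true := by decide +kernel

section

variable {F : Type*} [Field F] {q : ℕ} [NeZero q] {add mul : Fin q → Fin q → Fin q} {φ : Fin q → F}

/-- Common argument: model matrices `u`, `h` with unit determinant, `v = h u h⁻¹`, regular `u`, and
chains reaching the elementary transvections with parameters spanning the field. -/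
theorem generated (ha : ∀ a b, φ (add a b) = φ a + φ b) (hm : ∀ a b, φ (mul a b) = φ a * φ b)
    (h0 : φ 0 = 0) (h1 : φ 1 = 1)
    (u v h : Model q) (hdu : (toM φ u).det = 1) (hdh : (toM φ h).det = 1)
    (hconj : eqb (mm add mul h u) (mm add mul v h) = true)
    (hnil : IsNilpotent (toM φ u - 1)) (hreg : (toM φ u - 1) ^ (3 - 1) ≠ 0)
    (chains : List (List (Bool × Model q)))
    (hok : (chains.all fun l => chainOK add mul u v (oneModel q) l) = true)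
    (cs : List (Fin q))
    (htar : ∀ c ∈ cs, (offDiag.all fun ij => chains.any fun l =>
      eqb (chainEnd (oneModel q) l) (elemModel q ij.1 ij.2 c)) = true)
    (hspan : ∀ S : AddSubgroup F, (∀ c ∈ cs, φ c ∈ S) → S = ⊤) :
    ∃ U g : SpecialLinearGroup (Fin 3) F, IsNilpotent ((U : Matrix (Fin 3) (Fin 3) F) - 1) ∧
      ((U : Matrix (Fin 3) (Fin 3) F) - 1) ^ (3 - 1) ≠ 0 ∧
      Subgroup.closure ({U, g * U * g⁻¹} : Set (SpecialLinearGroup (Fin 3) F)) = ⊤ := by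
  let U : SpecialLinearGroup (Fin 3) F := ⟨toM φ u, hdu⟩
  let g : SpecialLinearGroup (Fin 3) F := ⟨toM φ h, hdh⟩
  refine ⟨U, g, hnil, hreg, eq_top_of_transvection_mem _ fun i j hij c => ?_⟩
  set G := Subgroup.closure ({U, g * U * g⁻¹} : Set (SpecialLinearGroup (Fin 3) F))
  have hv : ((g * U * g⁻¹ : SpecialLinearGroup (Fin 3) F) : Matrix (Fin 3) (Fin 3) F) = toM φ v := by
    have h' : toM φ h * toM φ u = toM φ v * toM φ h := by
      rw [← toM_mm ha hm, ← toM_mm ha hm, eq_of_eqb hconj]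
    rw [val_mul, val_mul]
    change toM φ h * toM φ u * _ = _
    rw [h', mul_assoc]
    change toM φ v * ((g : Matrix (Fin 3) (Fin 3) F) * _) = _
    rw [← val_mul, mul_inv_cancel, val_one, mul_one]
  let S : AddSubgroup F :=
    { carrier := {x | SpecialLinearGroup.transvection hij x ∈ G}
      zero_mem' := by simp [G.one_mem]
      add_mem' := fun {a b} hx hy => by
        simp only [Set.mem_setOf_eq, SpecialLinearGroup.transvection_add]; exact mul_mem hx hy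
      neg_mem' := fun {a} hx => by
        simp only [Set.mem_setOf_eq, ← SpecialLinearGroup.transvection_inv]; exact inv_mem hx }
  have hS : S = ⊤ := by
    refine hspan S fun c hc => ?_
    have hmem : (i, j) ∈ offDiag :=
      (show ∀ a b : Fin 3, a ≠ b → (a, b) ∈ offDiag by decide) i j hij
    have := List.all_eq_true.1 (htar c hc) _ hmem
    obtain ⟨l, hl, hle⟩ := List.any_eq_true.1 this
    obtain ⟨w, hw, ew⟩ := chainEnd_mem ha hm (G := G)
      ⟨U, Subgroup.subset_closure (by simp), rfl⟩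
      ⟨_, Subgroup.subset_closure (by simp), hv⟩ l (oneModel q) (List.all_eq_true.1 hok l hl)
      ⟨1, G.one_mem, by
        ext a b
        simp only [toM, oneModel, val_one, one_apply]
        split <;> simp [h0, h1]⟩
    rw [eq_of_eqb hle] at ew
    have he : SpecialLinearGroup.transvection hij (φ c) = w := by
      refine Subtype.ext ?_
      rw [ew, SpecialLinearGroup.transvection_coe]
      ext a b
      simp only [toM, elemModel, Matrix.add_apply, one_apply, single_apply]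
      by_cases hab : a = i ∧ b = j
      · obtain ⟨rfl, rfl⟩ := hab
        simp [hij]
      · have hab' : ¬ (i = a ∧ j = b) := fun e => hab ⟨e.1.symm, e.2.symm⟩
        by_cases hd : a = b
        · subst hd; simp [hab, hab', h1]
        · simp [hab, hab', hd, h0]
    change SpecialLinearGroup.transvection hij (φ c) ∈ G
    rw [he]; exact hw
  exact (SetLike.ext_iff.1 hS c).2 trivial

end

/-- `SL_3` over a field with two elements. -/
theorem two {F : Type*} [Field F] [Fintype F] (hF : Fintype.card F = 2) :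
    ∃ U g : SpecialLinearGroup (Fin 3) F, IsNilpotent ((U : Matrix (Fin 3) (Fin 3) F) - 1) ∧
      ((U : Matrix (Fin 3) (Fin 3) F) - 1) ^ (3 - 1) ≠ 0 ∧
      Subgroup.closure ({U, g * U * g⁻¹} : Set (SpecialLinearGroup (Fin 3) F)) = ⊤ := by
  haveI : CharP F 2 := charP_of_card_eq_prime hF
  let φ : Fin 2 → F := ![0, 1]
  have ha : ∀ a b, φ (add2 a b) = φ a + φ b := by
    intro a b; fin_cases a <;> fin_cases b <;> simp [φ, add2, CharTwo.add_self_eq_zero]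
  have hm : ∀ a b, φ (mul2 a b) = φ a * φ b := by
    intro a b; fin_cases a <;> fin_cases b <;> simp [φ, mul2]
  refine generated (φ := φ) ha hm rfl rfl uMat2 vMat2 hMat2 ?_ ?_ conj2 ?_ ?_ chains2 chains2_ok [1]
    (by simpa using targets2) ?_
  · simp [toM, φ, uMat2, det_fin_three]
  · simp [toM, φ, hMat2, det_fin_three, CharTwo.neg_eq]
  · refine ⟨3, ?_⟩
    ext i j
    fin_cases i <;> fin_cases j <;> simp [toM, φ, uMat2, pow_succ, Matrix.mul_apply, Fin.sum_univ_three]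
  · intro e
    have := congrFun (congrFun e 0) 2
    simp [toM, φ, uMat2, pow_succ, Matrix.mul_apply, Fin.sum_univ_three] at this
  · intro S hS
    refine (AddSubgroup.eq_top_iff' S).2 fun x => ?_
    have hx : x = 0 ∨ x = 1 := by
      have := FiniteField.pow_card x
      rw [hF] at this
      rcases eq_or_ne x 0 with h | h
      · exact Or.inl h
      · exact Or.inr (mul_left_cancel₀ h (by rw [mul_one, ← pow_two, this]))
    rcases hx with rfl | rfl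
    · exact S.zero_mem
    · exact hS 1 (by simp)

/-- `SL_3` over a field with four elements. -/
theorem four {F : Type*} [Field F] [Fintype F] (hF : Fintype.card F = 4) :
    ∃ U g : SpecialLinearGroup (Fin 3) F, IsNilpotent ((U : Matrix (Fin 3) (Fin 3) F) - 1) ∧
      ((U : Matrix (Fin 3) (Fin 3) F) - 1) ^ (3 - 1) ≠ 0 ∧
      Subgroup.closure ({U, g * U * g⁻¹} : Set (SpecialLinearGroup (Fin 3) F)) = ⊤ := by
  classical
  haveI : CharP F 2 := by
    haveI : Fact (Nat.Prime 2) := ⟨Nat.prime_two⟩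
    exact charP_of_card_eq_prime_pow (f := 2) (by simpa using hF)
  obtain ⟨w, hw0, hw1⟩ : ∃ w : F, w ≠ 0 ∧ w ≠ 1 := by
    by_contra hcon
    push Not at hcon
    have : (Finset.univ : Finset F) ⊆ {0, 1} := fun x _ => by
      rcases eq_or_ne x 0 with h | h
      · simp [h]
      · simp [hcon x h]
    have := (Finset.card_le_card this).trans Finset.card_le_two
    simp [hF] at this
  have hw : w * w = w + 1 := by
    have h3 : w ^ 3 = 1 := by simpa [hF] using FiniteField.pow_card_sub_one_eq_one w hw0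
    have h2 : (w - 1) * (w * w + w + 1) = 0 := by linear_combination h3
    rcases mul_eq_zero.1 h2 with h | h
    · exact absurd (sub_eq_zero.1 h) hw1
    · rw [add_assoc, CharTwo.add_eq_zero] at h; exact h
  let φ : Fin 4 → F := ![0, 1, w, w + 1]
  have two0 : (2 : F) = 0 := CharTwo.two_eq_zero
  have ha : ∀ a b, φ (add4 a b) = φ a + φ b := by
    intro a b; fin_cases a <;> fin_cases b <;> simp [φ, add4] <;> grind
  have hm : ∀ a b, φ (mul4 a b) = φ a * φ b := by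
    intro a b; fin_cases a <;> fin_cases b <;> simp [φ, mul4] <;> grind
  refine generated (φ := φ) ha hm rfl rfl uMat4 vMat4 hMat4 ?_ ?_ conj4 ?_ ?_ chains4 chains4_ok
    [1, 2] (by simpa using targets4) ?_
  · simp [toM, φ, uMat4, det_fin_three]
  · simp [toM, φ, hMat4, det_fin_three]; grind
  · refine ⟨3, ?_⟩
    ext i j
    fin_cases i <;> fin_cases j <;> simp [toM, φ, uMat4, pow_succ, Matrix.mul_apply, Fin.sum_univ_three]
  · intro e
    have := congrFun (congrFun e 0) 2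
    simp [toM, φ, uMat4, pow_succ, Matrix.mul_apply, Fin.sum_univ_three, hw0] at this
  · intro S hS
    refine (AddSubgroup.eq_top_iff' S).2 fun x => ?_
    have h1 : (1 : F) ∈ S := hS 1 (by simp)
    have h2 : w ∈ S := hS 2 (by simp)
    have hcard : (Finset.univ : Finset F) = {0, 1, w, w + 1} := by
      refine (Finset.eq_univ_of_card _ ?_).symm
      have e1 : w + 1 ≠ 0 := fun e => hw1 (by rw [CharTwo.add_eq_zero] at e; exact e)
      rw [hF, Finset.card_insert_of_notMem, Finset.card_insert_of_notMem,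
        Finset.card_insert_of_notMem, Finset.card_singleton] <;>
        simp [hw0, Ne.symm hw0, hw1, Ne.symm hw1, Ne.symm e1]
    have := Finset.mem_univ x
    rw [hcard] at this
    simp only [Finset.mem_insert, Finset.mem_singleton] at this
    rcases this with rfl | rfl | rfl | rfl
    exacts [S.zero_mem, h1, h2, S.add_mem h2 h1]

end CfsgLib.RegUnip.SmallSL3
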