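import Cfsg.Agent.Lib.RegUnip.SpModel

/-!
`Sp_{2n}(q)`, `n ≥ 2`, `(n, q) ≠ (2, 2)`, is generated by three conjugates of a regular unipotent.
-/

set_option autoImplicit false

namespace CfsgLib.RegUnip.SpGen

open Cfsg Matrix CfsgLib.Sp

variable {F : Type*} [Field F] {n : ℕ}

theorem conj_quot {G : Type*} [Group G] {X T : G} (S : G) (h : Commute X T) :
    (S * T)⁻¹ * (S * X * T) = X := by
  rw [mul_assoc S, h.eq]; group

namespace Model

variable (M : Model F n)

theorem orth {i j : ℤ} (h1 : i - n < j) (h2 : j < i + n) : sympForm n F (M.a i) (M.a j) = 0 := by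
  rw [M.form]; exact M.φ_small _ (by omega) (by omega)

theorem form_top (i : ℤ) : sympForm n F (M.a i) (M.a (i + n)) = 1 := by
  rw [M.form, add_sub_cancel_left, M.φ_top]

theorem form_bot (i : ℤ) : sympForm n F (M.a (i + n)) (M.a i) = -1 := by
  rw [sympForm_flip, form_top]

theorem zpow_act (s j : ℤ) : (M.U ^ s).1 *ᵥ M.a j = M.a (j + s) := by
  induction s using Int.induction_on generalizing j with
  | zero => simp
  | succ i ih => rw [_root_.zpow_add_one, mulVec_mul, M.act, ih]; ring_nf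
  | pred i ih =>
    rw [_root_.zpow_sub_one, mulVec_mul, inv_fix (M.act (j - 1) |>.trans (by rw [sub_add_cancel])),
      ih]
    ring_nf

theorem inv_act (j : ℤ) : (M.U⁻¹).1 *ᵥ M.a j = M.a (j - 1) :=
  inv_fix ((M.act (j - 1)).trans (by rw [sub_add_cancel]))

theorem shift_tmat (s j : ℤ) (c : F) :
    M.U ^ s * tmat (M.a j) c * (M.U ^ s)⁻¹ = tmat (M.a (j + s)) c := by
  rw [conj_tmat, zpow_act]

theorem shift_sElt (s i j : ℤ) (c : F) :
    M.U ^ s * sElt (M.a i) (M.a j) c * (M.U ^ s)⁻¹ = sElt (M.a (i + s)) (M.a (j + s)) c := by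
  rw [conj_sElt, zpow_act, zpow_act]

theorem tmat_shift_mem {K : Subgroup (symplecticGroup (Fin n) F)} (hU : M.U ∈ K) {i : ℤ} {c : F}
    (h : tmat (M.a i) c ∈ K) (j : ℤ) : tmat (M.a j) c ∈ K := by
  rw [show j = i + (j - i) by ring, ← shift_tmat]
  exact mul_mem (mul_mem (zpow_mem hU _) h) (inv_mem (zpow_mem hU _))

theorem sElt_shift_mem {K : Subgroup (symplecticGroup (Fin n) F)} (hU : M.U ∈ K) {i : ℤ} {c : F}
    (h : sElt (M.a i) (M.a (i + 1)) c ∈ K) (j : ℤ) : sElt (M.a j) (M.a (j + 1)) c ∈ K := by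
  rw [show j = i + (j - i) by ring, show i + (j - i) + 1 = (i + 1) + (j - i) by ring, ← shift_sElt]
  exact mul_mem (mul_mem (zpow_mem hU _) h) (inv_mem (zpow_mem hU _))

/-- `t_{a_n}(1) S(a_0, a_1; r) t_{a_n}(1)⁻¹`. -/
def gElt (r : F) : symplecticGroup (Fin n) F := sElt (M.a 0 + M.a n) (M.a 1) r

theorem gElt_eq (hn : 2 ≤ n) (r : F) :
    tmat (M.a n) 1 * sElt (M.a 0) (M.a 1) r * (tmat (M.a n) 1)⁻¹ = M.gElt r := by
  have h : sympForm n F (M.a 0) (M.a n) = 1 := by simpa using M.form_top 0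
  rw [conj_sElt, tmat_mulVec, h, tmat_fix _ (M.orth (by omega) (by omega)), mul_one, one_smul, gElt]

theorem gElt_orth (hn : 2 ≤ n) : sympForm n F (M.a 0 + M.a n) (M.a 1) = 0 := by
  rw [form_add_left, M.orth (by omega) (by omega), M.orth (by omega) (by omega), add_zero]

theorem gElt_a0 (hn : 2 ≤ n) (r : F) : (M.gElt r).1 *ᵥ M.a 0 = M.a 0 + r • M.a 1 := by
  have h : sympForm n F (M.a 0) (M.a n) = 1 := by simpa using M.form_top 0
  rw [gElt, sElt_mulVec (M.gElt_orth hn), form_add_right, sympForm_self, h,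
    M.orth (j := 1) (by omega) (by omega)]
  simp

theorem gElt_fix (hn : 2 ≤ n) (r : F) {j : ℤ} (h1 : 0 < j) (h2 : j < n) (h3 : j ≤ 2) :
    (M.gElt r).1 *ᵥ M.a j = M.a j := by
  refine sElt_fix (M.gElt_orth hn) r ?_ (M.orth (by omega) (by omega))
  rw [form_add_right, M.orth (by omega) (by omega), M.orth (by omega) (by omega), add_zero]

/-- A subgroup containing `U`, all `t_{a_0}` and all `S(a_0, a_1)` is everything. -/
theorem eq_top_of_full (hn : 2 ≤ n) {K : Subgroup (symplecticGroup (Fin n) F)} (hU : M.U ∈ K)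
    (ht0 : ∀ c, tmat (M.a 0) c ∈ K) (hs0 : ∀ c, sElt (M.a 0) (M.a 1) c ∈ K) : K = ⊤ := by
  have ht : ∀ j c, tmat (M.a j) c ∈ K := fun j c => M.tmat_shift_mem hU (ht0 c) j
  have hs : ∀ j c, sElt (M.a j) (M.a (j + 1)) c ∈ K := fun j c =>
    M.sElt_shift_mem hU (i := 0) (by simpa using hs0 c) j
  have hpair : ∀ d : ℕ, d < n → ∀ i c, sElt (M.a i) (M.a (i + d)) c ∈ K := by
    intro d
    induction d with
    | zero => intro _ i c; rw [Nat.cast_zero, add_zero, sElt_self]; exact ht _ _
    | succ d ih =>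
      intro hd i c
      rcases Nat.eq_zero_or_pos d with hd0 | hd0
      · subst hd0; simpa using hs i c
      set j := i + (d : ℤ) with hj
      rw [show i + ((d + 1 : ℕ) : ℤ) = j + 1 by rw [hj]; push_cast; ring]
      let g := sElt (M.a j + M.a (j + n)) (M.a (j + 1)) (1 : F)
      have ho : sympForm n F (M.a j + M.a (j + n)) (M.a (j + 1)) = 0 := by
        rw [form_add_left, M.orth (by omega) (by omega), M.orth (by omega) (by omega), add_zero]
      have hg : g ∈ K := by
        have e : tmat (M.a (j + n)) 1 * sElt (M.a j) (M.a (j + 1)) (1 : F) *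
            (tmat (M.a (j + n)) 1)⁻¹ = g := by
          rw [conj_sElt, tmat_mulVec, M.form_top, tmat_fix _ (M.orth (by omega) (by omega)), mul_one,
            one_smul]
        rw [← e]
        exact mul_mem (mul_mem (ht _ _) (hs _ _)) (inv_mem (ht _ _))
      set θ := sympForm n F (M.a i) (M.a (j + n)) with hθ
      have hgi : g.1 *ᵥ M.a i = M.a i + θ • M.a (j + 1) := by
        rw [sElt_mulVec ho, form_add_right, M.orth (i := i) (j := j) (by omega) (by omega),
          M.orth (i := i) (j := j + 1) (by omega) (by omega)]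
        simp [θ]
      have hgj : g.1 *ᵥ M.a j = M.a j + M.a (j + 1) := by
        rw [sElt_mulVec ho, form_add_right, sympForm_self, M.form_top,
          M.orth (i := j) (j := j + 1) (by omega) (by omega)]
        simp
      have h0 : sympForm n F (M.a i) (M.a j) = 0 := M.orth (by omega) (by omega)
      have h1 : sympForm n F (M.a i) (M.a (j + 1)) = 0 := M.orth (by omega) (by omega)
      have h1' : sympForm n F (M.a (j + 1)) (M.a i) = 0 := M.orth (by omega) (by omega)
      have h2 : sympForm n F (M.a (j + 1)) (M.a j) = 0 := M.orth (by omega) (by omega)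
      have h3 := mul_mem (mul_mem hg (ih (by omega) i c)) (inv_mem hg)
      rw [conj_sElt, ← hj, hgi, hgj,
        sElt_add_left_orth (by rw [form_add_right, h0, h1, add_zero])
          (by rw [form_smul_left, form_add_right, h2, sympForm_self, add_zero, mul_zero])
          (by rw [form_smul_left, h1', mul_zero]),
        sElt_add_right_orth h0 h1 h2,
        sElt_smul_left (by rw [form_add_right, h2, sympForm_self, add_zero]),
        sElt_add_right_orth h2 (sympForm_self _) h2, sElt_self,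
        sElt_comm h2 (θ * c)] at h3
      have hA := ih (by omega) i c
      rw [← hj] at hA
      rw [K.mul_mem_cancel_right (mul_mem (hs j (θ * c)) (ht _ _))] at h3
      exact (K.mul_mem_cancel_left hA).1 h3
  have hpair' : ∀ i j : ℤ, i - n < j → j < i + n → ∀ c, sElt (M.a i) (M.a j) c ∈ K := by
    intro i j h1 h2 c
    rcases le_total i j with h | h
    · rw [show j = i + ((j - i).toNat : ℤ) by omega]
      exact hpair _ (by omega) i c
    · rw [sElt_comm (M.orth h1 h2), show i = j + ((i - j).toNat : ℤ) by omega]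
      exact hpair _ (by omega) j c
  have hW : ∀ s : ℤ, ∀ v ∈ Submodule.span F (Set.range fun k : Fin n => M.a (s + k.val)),
      v ∈ Wset K := fun s => span_subset_Wset _
        (fun i j => M.orth (by omega) (by omega))
        (fun i j c => hpair' _ _ (by omega) (by omega) c) (fun i c => ht _ c)
  have hiso : ∀ s : ℤ, ∀ x ∈ Submodule.span F (Set.range fun k : Fin n => M.a (s + k.val)),
      ∀ y ∈ Submodule.span F (Set.range fun k : Fin n => M.a (s + k.val)),
      sympForm n F x y = 0 := by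
    intro s x hx y hy
    induction hx, hy using Submodule.span_induction₂ with
    | mem_mem x y hx hy =>
      obtain ⟨i, rfl⟩ := hx; obtain ⟨j, rfl⟩ := hy; exact M.orth (by omega) (by omega)
    | zero_left y _ => exact form_zero_left y
    | zero_right x _ => rw [sympForm_flip, form_zero_left, neg_zero]
    | add_left x y z _ _ _ h1 h2 => rw [form_add_left, h1, h2, add_zero]
    | add_right x y z _ _ _ h1 h2 => rw [form_add_right, h1, h2, add_zero]
    | smul_left r x y _ _ h => rw [form_smul_left, h, mul_zero]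
    | smul_right r x y _ _ h => rw [form_smul_right, h, mul_zero]
  refine eq_top_of_decomp _ _ (hW 0) (hW n) (fun v => ?_) (hiso 0) (hiso n)
  rw [← Submodule.mem_sup]
  have hle : Submodule.span F (Set.range fun k : Fin (2 * n) => M.a (k.val : ℤ)) ≤
      Submodule.span F (Set.range fun k : Fin n => M.a (0 + (k.val : ℤ))) ⊔
        Submodule.span F (Set.range fun k : Fin n => M.a ((n : ℤ) + k.val)) := by
    rw [Submodule.span_le]
    rintro _ ⟨k, rfl⟩
    by_cases hk : k.val < n
    · exact Submodule.mem_sup_left (Submodule.subset_span ⟨⟨k.val, hk⟩, by simp⟩)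
    · refine Submodule.mem_sup_right (Submodule.subset_span ⟨⟨k.val - n, by omega⟩, ?_⟩)
      show M.a _ = M.a _
      congr 1
      push_cast [Nat.cast_sub (not_lt.1 hk)]
      ring
  exact hle (by rw [M.spans]; exact Submodule.mem_top)

variable [Fintype F]

theorem e_identity (hn : 2 ≤ n) (r c : F) :
    M.gElt r * tmat (M.a 0) c * (M.gElt r)⁻¹ * (tmat (M.a 0) c)⁻¹ =
      sElt (M.a 0) (M.a 1) (r * c) * tmat (M.a 1) (c * r * r) := by
  rw [conj_tmat, gElt_a0 M hn, tmat_add_smul (M.orth (by omega) (by omega)), mul_inv_cancel_right]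

/-- `n ≥ 3`: `⟨U, t_{a_0}(1), S(a_0, a_1; ω)⟩` is everything. -/
theorem closure_eq_top_large (hn : 3 ≤ n) {w : Fˣ} (hw : ∀ x : Fˣ, x ∈ Subgroup.zpowers w) :
    Subgroup.closure {M.U, tmat (M.a 0) 1, sElt (M.a 0) (M.a 1) (w : F)} = ⊤ := by
  set K := Subgroup.closure
    ({M.U, tmat (M.a 0) 1, sElt (M.a 0) (M.a 1) (w : F)} : Set _) with hK
  have hU : M.U ∈ K := Subgroup.subset_closure (by simp)
  have h0 : tmat (M.a 0) (1 : F) ∈ K := Subgroup.subset_closure (by simp)
  have hs : sElt (M.a 0) (M.a 1) (w : F) ∈ K := Subgroup.subset_closure (by simp)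
  have h01 : sympForm n F (M.a 0) (M.a 1) = 0 := M.orth (by omega) (by omega)
  have h02 : sympForm n F (M.a 0) (M.a 2) = 0 := M.orth (by omega) (by omega)
  have h12 : sympForm n F (M.a 1) (M.a 2) = 0 := M.orth (by omega) (by omega)
  have hg : M.gElt (w : F) ∈ K := by
    rw [← M.gElt_eq (by omega)]
    exact mul_mem (mul_mem (M.tmat_shift_mem hU h0 n) hs) (inv_mem (M.tmat_shift_mem hU h0 n))
  let g := M.gElt (w : F)
  let g1 := M.U * g * M.U⁻¹
  have hg1 : g1 ∈ K := mul_mem (mul_mem hU hg) (inv_mem hU)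
  let h := g1 * g * g1⁻¹ * g⁻¹
  have hh : h ∈ K := mul_mem (mul_mem (mul_mem hg1 hg) (inv_mem hg1)) (inv_mem hg)
  let θ : F := (w : F) * sympForm n F (M.a (-1)) (M.a n)
  have hgm : g.1 *ᵥ M.a (-1) = M.a (-1) + θ • M.a 1 := by
    rw [show g = M.gElt (w : F) from rfl, gElt, sElt_mulVec (M.gElt_orth (by omega)),
      form_add_right, M.orth (i := -1) (j := 0) (by omega) (by omega),
      M.orth (i := -1) (j := 1) (by omega) (by omega)]
    simp [θ]
  have hg0 : g.1 *ᵥ M.a 0 = M.a 0 + (w : F) • M.a 1 := M.gElt_a0 (by omega) _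
  have hga : g.1 *ᵥ M.a 1 = M.a 1 := M.gElt_fix (by omega) _ (by omega) (by omega) (by omega)
  have hgb : g.1 *ᵥ M.a 2 = M.a 2 := M.gElt_fix (by omega) _ (by omega) (by omega) le_rfl
  have k0 : g1.1 *ᵥ M.a 0 = M.a 0 + θ • M.a 2 := by
    simp only [g1, mulVec_mul, inv_act, zero_sub, hgm, mulVec_add, mulVec_smul, M.act]
    norm_num
  have k1 : g1.1 *ᵥ M.a 1 = M.a 1 + (w : F) • M.a 2 := by
    simp only [g1, mulVec_mul, inv_act, sub_self, hg0, mulVec_add, mulVec_smul, M.act]
    norm_num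
  have k2 : g1.1 *ᵥ M.a 2 = M.a 2 := by
    simp only [g1, mulVec_mul, inv_act, show (2 : ℤ) - 1 = 1 from rfl, hga, M.act]
    norm_num
  have hh0 : h.1 *ᵥ M.a 0 = M.a 0 + ((w : F) * w) • M.a 2 := by
    have e1 : (g⁻¹).1 *ᵥ M.a 0 = M.a 0 - (w : F) • M.a 1 :=
      inv_fix (by rw [mulVec_sub, mulVec_smul, hg0, hga, add_sub_cancel_right])
    have e2 : (g1⁻¹).1 *ᵥ (M.a 0 - (w : F) • M.a 1) =
        M.a 0 - θ • M.a 2 - (w : F) • (M.a 1 - (w : F) • M.a 2) :=
      inv_fix (by simp only [mulVec_sub, mulVec_smul, k0, k1, k2]; module)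
    rw [show h = g1 * g * g1⁻¹ * g⁻¹ from rfl, mulVec_mul, mulVec_mul, mulVec_mul, e1, e2]
    simp only [mulVec_sub, mulVec_add, mulVec_smul, hg0, hga, hgb, k0, k1, k2]
    module
  let A : AddSubgroup F :=
    { carrier := {c | tmat (M.a 0) c ∈ K ∧ sElt (M.a 0) (M.a 1) ((w : F) * c) ∈ K}
      zero_mem' := ⟨by rw [tmat_zero]; exact K.one_mem, by rw [mul_zero, sElt_zero]; exact K.one_mem⟩
      add_mem' := fun {c d} hc hd => ⟨by rw [← tmat_mul]; exact mul_mem hc.1 hd.1,
        by rw [mul_add, ← sElt_add h01]; exact mul_mem hc.2 hd.2⟩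
      neg_mem' := fun {c} hc => ⟨by rw [← tmat_inv]; exact inv_mem hc.1,
        by rw [mul_neg, ← sElt_inv h01]; exact inv_mem hc.2⟩ }
  have hA : ∀ c, c ∈ A := eq_top_of_sq_stable hw ⟨h0, by simpa using hs⟩ fun c hc => by
    obtain ⟨hc1, hc2⟩ := hc
    refine ⟨?_, ?_⟩
    · have := mul_mem (mul_mem (mul_mem hg hc1) (inv_mem hg)) (inv_mem hc1)
      rw [M.e_identity (by omega), K.mul_mem_cancel_left hc2] at this
      rw [show (w : F) * w * c = c * w * w by ring]
      exact M.tmat_shift_mem hU this 0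
    · have hP := mul_mem (mul_mem (mul_mem hh hc1) (inv_mem hh)) (inv_mem hc1)
      rw [conj_tmat, hh0, tmat_add_smul h02, mul_inv_cancel_right] at hP
      set P := sElt (M.a 0) (M.a 2) ((w : F) * w * c) * tmat (M.a 2) (c * (w * w) * (w * w)) with hPdef
      have hQ := mul_mem (inv_mem hP) (mul_mem (mul_mem hg hP) (inv_mem hg))
      have e : P⁻¹ * (g * P * g⁻¹) = sElt (M.a 1) (M.a 2) ((w : F) * ((w : F) * w * c)) := by
        have hg' : g * P * g⁻¹ = (g * sElt (M.a 0) (M.a 2) ((w : F) * w * c) * g⁻¹) *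
            (g * tmat (M.a 2) (c * (w * w) * (w * w)) * g⁻¹) := by rw [hPdef]; group
        rw [hg', conj_sElt, conj_tmat, hg0, hgb,
          sElt_add_left_orth h02 (by rw [form_smul_left, h12, mul_zero])
            (by rw [form_smul_left, M.orth (by omega) (by omega), mul_zero]),
          sElt_smul_left h12, hPdef]
        exact conj_quot _ (commute_tmat_sElt _ _ h12 (sympForm_self _)).symm
      rw [show g = M.gElt (w : F) from rfl] at e
      rw [e] at hQ
      simpa using M.sElt_shift_mem hU (i := 1) hQ 0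
  refine M.eq_top_of_full (by omega) hU (fun c => (hA c).1) fun c => ?_
  have := (hA ((w : F)⁻¹ * c)).2
  rwa [← mul_assoc, mul_inv_cancel₀ w.ne_zero, one_mul] at this

/-- Odd characteristic: `⟨U, t_{a_0}(1), S(a_0, a_1; ω)⟩` is everything. -/
theorem closure_eq_top_odd (hn : 2 ≤ n) (h2 : (2 : F) ≠ 0) {w : Fˣ}
    (hw : ∀ x : Fˣ, x ∈ Subgroup.zpowers w) :
    Subgroup.closure {M.U, tmat (M.a 0) 1, sElt (M.a 0) (M.a 1) (w : F)} = ⊤ := by
  set K := Subgroup.closure
    ({M.U, tmat (M.a 0) 1, sElt (M.a 0) (M.a 1) (w : F)} : Set _) with hK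
  have hU : M.U ∈ K := Subgroup.subset_closure (by simp)
  have h0 : tmat (M.a 0) (1 : F) ∈ K := Subgroup.subset_closure (by simp)
  have hs : sElt (M.a 0) (M.a 1) (w : F) ∈ K := Subgroup.subset_closure (by simp)
  have h01 : sympForm n F (M.a 0) (M.a 1) = 0 := M.orth (by omega) (by omega)
  have hg : M.gElt (w : F) ∈ K := by
    rw [← M.gElt_eq hn]
    exact mul_mem (mul_mem (M.tmat_shift_mem hU h0 n) hs) (inv_mem (M.tmat_shift_mem hU h0 n))
  let A : AddSubgroup F :=
    { carrier := {c | tmat (M.a 0) c ∈ K}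
      zero_mem' := by rw [Set.mem_setOf_eq, tmat_zero]; exact K.one_mem
      add_mem' := fun {c d} (hc : tmat (M.a 0) c ∈ K) (hd : tmat (M.a 0) d ∈ K) => by
        rw [Set.mem_setOf_eq, ← tmat_mul]; exact mul_mem hc hd
      neg_mem' := fun {c} (hc : tmat (M.a 0) c ∈ K) => by
        rw [Set.mem_setOf_eq, ← tmat_inv]; exact inv_mem hc }
  have hhalf : ∀ c, 2 * c ∈ A → c ∈ A := by
    intro c hc
    have hinj : Function.Injective fun x : A => x + x := fun x y e => Subtype.ext
      (mul_left_cancel₀ h2 (by simpa [two_mul] using congrArg (fun z : A => (z : F)) e))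
    obtain ⟨x, hx⟩ := Finite.injective_iff_surjective.1 hinj ⟨2 * c, hc⟩
    rw [← mul_left_cancel₀ h2 ((two_mul (x : F)).trans (congrArg (fun z : A => (z : F)) hx))]
    exact x.2
  have hA : ∀ c, c ∈ A := eq_top_of_sq_stable hw h0 fun c (hc : tmat (M.a 0) c ∈ K) => by
    apply hhalf
    have hX := mul_mem (mul_mem (mul_mem hg hc) (inv_mem hg)) (inv_mem hc)
    rw [M.e_identity hn] at hX
    set X := sElt (M.a 0) (M.a 1) ((w : F) * c) * tmat (M.a 1) (c * w * w) with hXdef
    have hY := mul_mem (inv_mem hX) (mul_mem (mul_mem hg hX) (inv_mem hg))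
    have e : X⁻¹ * (M.gElt (w : F) * X * (M.gElt (w : F))⁻¹) =
        tmat (M.a 1) (2 * ((w : F) * (w * c))) := by
      have hg' : M.gElt (w : F) * X * (M.gElt (w : F))⁻¹ =
          (M.gElt (w : F) * sElt (M.a 0) (M.a 1) ((w : F) * c) * (M.gElt (w : F))⁻¹) *
          (M.gElt (w : F) * tmat (M.a 1) (c * w * w) * (M.gElt (w : F))⁻¹) := by rw [hXdef]; group
      rw [hg', conj_sElt, conj_tmat, gElt_a0 M hn, gElt_fix M hn _ (by omega) (by omega) (by omega),
        sElt_add_left_orth h01 (by rw [form_smul_left, sympForm_self, mul_zero])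
          (by rw [form_smul_left, M.orth (by omega) (by omega), mul_zero]),
        sElt_smul_left (sympForm_self _), sElt_self, hXdef]
      exact conj_quot _ (tmat_commute _ _ (sympForm_self _))
    rw [e] at hY
    have := M.tmat_shift_mem hU hY 0
    show tmat (M.a 0) _ ∈ K
    rwa [mul_assoc (w : F) w c]
  refine M.eq_top_of_full hn hU hA fun c => ?_
  have hc : tmat (M.a 0) ((w : F)⁻¹ * c) ∈ K := hA _
  have hX := mul_mem (mul_mem (mul_mem hg hc) (inv_mem hg)) (inv_mem hc)
  rw [M.e_identity hn, K.mul_mem_cancel_right (M.tmat_shift_mem hU (hA _) 1), ← mul_assoc,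
    mul_inv_cancel₀ w.ne_zero, one_mul] at hX
  exact hX

end Model

end CfsgLib.RegUnip.SpGen
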