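import Cfsg.Agent.Lib.Sp.Simple

/-!
Symplectic elements supported on an orthogonal pair, and closure properties of the centres of the
transvection groups contained in a subgroup.
-/

set_option autoImplicit false

namespace CfsgLib.RegUnip.SpGen

open Cfsg Matrix CfsgLib.Sp
open scoped commutatorElement

variable {F : Type*} [Field F] {m : ℕ}

theorem form_add_left (x y z : Fin m ⊕ Fin m → F) :
    sympForm m F (x + y) z = sympForm m F x z + sympForm m F y z := by
  simp only [← sympBilin_apply, map_add, LinearMap.add_apply]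

theorem form_add_right (x y z : Fin m ⊕ Fin m → F) :
    sympForm m F x (y + z) = sympForm m F x y + sympForm m F x z := by
  simp only [← sympBilin_apply, map_add]

theorem form_smul_left (c : F) (x y : Fin m ⊕ Fin m → F) :
    sympForm m F (c • x) y = c * sympForm m F x y := by
  simp only [← sympBilin_apply, map_smul, LinearMap.smul_apply, smul_eq_mul]

theorem form_smul_right (c : F) (x y : Fin m ⊕ Fin m → F) :
    sympForm m F x (c • y) = c * sympForm m F x y := by
  simp only [← sympBilin_apply, map_smul, smul_eq_mul]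

theorem form_zero_left (x : Fin m ⊕ Fin m → F) : sympForm m F 0 x = 0 := by
  simp only [← sympBilin_apply, map_zero, LinearMap.zero_apply]

theorem sp_ext {g h : symplecticGroup (Fin m) F} (H : ∀ v, g.1 *ᵥ v = h.1 *ᵥ v) : g = h :=
  toEquiv_injective (LinearEquiv.ext H)

theorem tmat_mulVec (v : Fin m ⊕ Fin m → F) (c : F) (x : Fin m ⊕ Fin m → F) :
    (tmat v c).1 *ᵥ x = x + (c * sympForm m F x v) • v :=
  sympTransvection_mulVec v c x

theorem mulVec_mul (g h : symplecticGroup (Fin m) F) (x : Fin m ⊕ Fin m → F) :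
    (g * h).1 *ᵥ x = g.1 *ᵥ (h.1 *ᵥ x) := by
  rw [Submonoid.coe_mul, mulVec_mulVec]

theorem tmat_fix {v x : Fin m ⊕ Fin m → F} (c : F) (h : sympForm m F x v = 0) :
    (tmat v c).1 *ᵥ x = x := by
  rw [tmat_mulVec, h, mul_zero, zero_smul, add_zero]

theorem inv_fix {g : symplecticGroup (Fin m) F} {x y : Fin m ⊕ Fin m → F} (h : g.1 *ᵥ x = y) :
    (g⁻¹).1 *ᵥ y = x := by
  rw [← h, ← mulVec_mul, inv_mul_cancel, Submonoid.coe_one, one_mulVec]

theorem tmat_commute {v w : Fin m ⊕ Fin m → F} (c d : F) (h : sympForm m F w v = 0) :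
    Commute (tmat v c) (tmat w d) := by
  have := conj_tmat (tmat v c) w d
  rw [tmat_fix c h, mul_inv_eq_iff_eq_mul] at this
  exact this

/-- The element `z ↦ z + c (B(z,x) y + B(z,y) x)` for `B(x,y) = 0`. -/
def sElt (x y : Fin m ⊕ Fin m → F) (c : F) : symplecticGroup (Fin m) F :=
  tmat (x + y) c * tmat x (-c) * tmat y (-c)

theorem conj_sElt (g : symplecticGroup (Fin m) F) (x y : Fin m ⊕ Fin m → F) (c : F) :
    g * sElt x y c * g⁻¹ = sElt (g.1 *ᵥ x) (g.1 *ᵥ y) c := by
  simp only [sElt, ← mulVec_add, ← conj_tmat]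
  group

theorem sElt_mulVec {x y : Fin m ⊕ Fin m → F} (h : sympForm m F x y = 0) (c : F)
    (z : Fin m ⊕ Fin m → F) :
    (sElt x y c).1 *ᵥ z = z + (c * sympForm m F z x) • y + (c * sympForm m F z y) • x := by
  have h' : sympForm m F y x = 0 := by rw [sympForm_flip, h, neg_zero]
  simp only [sElt, mulVec_mul, tmat_mulVec, form_add_left, form_add_right, form_smul_left,
    sympForm_self, h, h', mul_zero, add_zero, zero_add, smul_add]
  module

theorem sElt_zero (x y : Fin m ⊕ Fin m → F) : sElt x y (0 : F) = 1 := by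
  simp [sElt]

theorem sElt_add {x y : Fin m ⊕ Fin m → F} (h : sympForm m F x y = 0) (c d : F) :
    sElt x y c * sElt x y d = sElt x y (c + d) := by
  have h' : sympForm m F y x = 0 := by rw [sympForm_flip, h, neg_zero]
  refine sp_ext fun z => ?_
  simp only [mulVec_mul, sElt_mulVec h, form_add_left, form_smul_left, sympForm_self, h, h',
    mul_zero, add_zero]
  module

theorem sElt_inv {x y : Fin m ⊕ Fin m → F} (h : sympForm m F x y = 0) (c : F) :
    (sElt x y c)⁻¹ = sElt x y (-c) :=
  inv_eq_of_mul_eq_one_right (by rw [sElt_add h, add_neg_cancel, sElt_zero])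

theorem sElt_self (x : Fin m ⊕ Fin m → F) (c : F) : sElt x x c = tmat x (2 * c) := by
  rw [sElt, ← two_smul F x, tmat_smul, tmat_mul, tmat_mul]
  congr 1
  ring

theorem sElt_comm {x y : Fin m ⊕ Fin m → F} (h : sympForm m F x y = 0) (c : F) :
    sElt x y c = sElt y x c := by
  have h' : sympForm m F y x = 0 := by rw [sympForm_flip, h, neg_zero]
  exact sp_ext fun z => by rw [sElt_mulVec h, sElt_mulVec h', add_right_comm]

theorem sElt_smul_right {x y : Fin m ⊕ Fin m → F} (h : sympForm m F x y = 0) (r c : F) :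
    sElt x (r • y) c = sElt x y (r * c) := by
  have h' : sympForm m F x (r • y) = 0 := by rw [form_smul_right, h, mul_zero]
  refine sp_ext fun z => ?_
  rw [sElt_mulVec h', sElt_mulVec h, form_smul_right]
  module

theorem sElt_smul_left {x y : Fin m ⊕ Fin m → F} (h : sympForm m F x y = 0) (r c : F) :
    sElt (r • x) y c = sElt x y (r * c) := by
  have h' : sympForm m F (r • x) y = 0 := by rw [form_smul_left, h, mul_zero]
  refine sp_ext fun z => ?_
  rw [sElt_mulVec h', sElt_mulVec h, form_smul_right]
  module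

theorem sElt_add_right {x y y' : Fin m ⊕ Fin m → F} (h : sympForm m F x y = 0)
    (h' : sympForm m F x y' = 0) (c : F) :
    sElt x y c * sElt x y' c =
      sElt x (y + y') c * tmat x (c * c * sympForm m F y' y) := by
  have hs : sympForm m F x (y + y') = 0 := by rw [form_add_right, h, h', add_zero]
  have h2 : sympForm m F y' x = 0 := by rw [sympForm_flip, h', neg_zero]
  refine sp_ext fun z => ?_
  simp only [mulVec_mul, sElt_mulVec h, sElt_mulVec h', sElt_mulVec hs, tmat_mulVec, form_add_left,
    form_add_right, form_smul_left, sympForm_self, h, h', h2, mul_zero, add_zero, zero_add]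
  module

theorem sElt_add_right_orth {x y y' : Fin m ⊕ Fin m → F} (h : sympForm m F x y = 0)
    (h' : sympForm m F x y' = 0) (h'' : sympForm m F y' y = 0) (c : F) :
    sElt x (y + y') c = sElt x y c * sElt x y' c := by
  rw [sElt_add_right h h', h'', mul_zero, tmat_zero, mul_one]

theorem sElt_add_left_orth {x x' y : Fin m ⊕ Fin m → F} (h : sympForm m F x y = 0)
    (h' : sympForm m F x' y = 0) (h'' : sympForm m F x' x = 0) (c : F) :
    sElt (x + x') y c = sElt x y c * sElt x' y c := by
  rw [sElt_comm (x := x + x') (by rw [form_add_left, h, h', add_zero]),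
    sElt_add_right_orth (by rw [sympForm_flip, h, neg_zero]) (by rw [sympForm_flip, h', neg_zero]) h'',
    sElt_comm h, sElt_comm h']

theorem tmat_add (x y : Fin m ⊕ Fin m → F) (c : F) :
    tmat (x + y) c = sElt x y c * tmat y c * tmat x c := by
  rw [sElt, mul_assoc _ (tmat y (-c)), tmat_mul, neg_add_cancel, tmat_zero, mul_one, mul_assoc,
    tmat_mul, neg_add_cancel, tmat_zero, mul_one]

theorem tmat_add_smul {x y : Fin m ⊕ Fin m → F} (h : sympForm m F x y = 0) (r c : F) :
    tmat (x + r • y) c = sElt x y (r * c) * tmat y (c * r * r) * tmat x c := by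
  rw [tmat_add, sElt_smul_right h, tmat_smul]

theorem commute_tmat_sElt {v x y : Fin m ⊕ Fin m → F} (c d : F) (hx : sympForm m F x v = 0)
    (hy : sympForm m F y v = 0) : Commute (tmat v c) (sElt x y d) := by
  have := conj_sElt (tmat v c) x y d
  rw [tmat_fix c hx, tmat_fix c hy, mul_inv_eq_iff_eq_mul] at this
  exact this

/-- The centres all of whose transvections lie in `K`. -/
def Wset (K : Subgroup (symplecticGroup (Fin m) F)) : Set (Fin m ⊕ Fin m → F) :=
  {v | ∀ c, tmat v c ∈ K}

theorem Wset_add_smul {K : Subgroup (symplecticGroup (Fin m) F)} {v w : Fin m ⊕ Fin m → F}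
    (hv : v ∈ Wset K) (hw : w ∈ Wset K) (h : sympForm m F v w ≠ 0) (c : F) :
    v + c • w ∈ Wset K := by
  intro d
  have := conj_tmat (tmat w (c / sympForm m F v w)) v d
  rw [tmat_mulVec, div_mul_cancel₀ c h] at this
  rw [← this]
  exact mul_mem (mul_mem (hw _) (hv d)) (inv_mem (hw _))

/-- If the transvection centres contain `L` and `L'` with `L + L'` everything and `L'` pairing
non-trivially against `L`, then `K` is the whole group. -/
theorem eq_top_of_decomp {K : Subgroup (symplecticGroup (Fin m) F)}
    (L L' : Submodule F (Fin m ⊕ Fin m → F)) (hL : ∀ v ∈ L, v ∈ Wset K) (hL' : ∀ v ∈ L', v ∈ Wset K)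
    (hsup : ∀ v, ∃ l ∈ L, ∃ l' ∈ L', l + l' = v) (hiso : ∀ x ∈ L, ∀ y ∈ L, sympForm m F x y = 0)
    (hiso' : ∀ x ∈ L', ∀ y ∈ L', sympForm m F x y = 0) : K = ⊤ := by
  refine le_of_tmat_mem fun v c => ?_
  revert c
  change v ∈ Wset K
  obtain ⟨l, hl, l', hl', rfl⟩ := hsup v
  by_cases h0 : sympForm m F l l' ≠ 0
  · simpa using Wset_add_smul (hL l hl) (hL' l' hl') h0 1
  rw [not_not] at h0
  by_cases hl0 : l' = 0
  · rw [hl0, add_zero]; exact hL l hl
  obtain ⟨p, hp⟩ := exists_pair_one hl0
  obtain ⟨k, hk, k', hk', rfl⟩ := hsup p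
  rw [form_add_right, hiso' l' hl' k' hk', add_zero] at hp
  have hkl : sympForm m F (l + k) l' ≠ 0 := by
    rw [form_add_left, h0, zero_add, sympForm_flip, hp]
    exact neg_ne_zero.2 one_ne_zero
  have h1 := Wset_add_smul (hL _ (L.add_mem hl hk)) (hL' l' hl') hkl 1
  rw [one_smul] at h1
  have h2 : sympForm m F (l + k + l') k ≠ 0 := by
    rw [form_add_left, hiso _ (L.add_mem hl hk) k hk, zero_add, hp]
    exact one_ne_zero
  have h3 := Wset_add_smul h1 (hL k hk) h2 (-1)
  rwa [show l + k + l' + (-1 : F) • k = l + l' by rw [neg_one_smul]; abel] at h3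

theorem sp_ext_span {ι : Type*} (e : ι → Fin m ⊕ Fin m → F)
    (he : Submodule.span F (Set.range e) = ⊤) {g h : symplecticGroup (Fin m) F}
    (H : ∀ i, g.1 *ᵥ e i = h.1 *ᵥ e i) : g = h := by
  have : Matrix.toLin' g.1 = Matrix.toLin' h.1 :=
    LinearMap.ext_on_range he fun i => by simpa only [Matrix.toLin'_apply] using H i
  exact sp_ext fun v => by simpa only [Matrix.toLin'_apply] using LinearMap.congr_fun this v

theorem sElt_fix {x y z : Fin m ⊕ Fin m → F} (h : sympForm m F x y = 0) (c : F)
    (hx : sympForm m F z x = 0) (hy : sympForm m F z y = 0) : (sElt x y c).1 *ᵥ z = z := by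
  rw [sElt_mulVec h, hx, hy, mul_zero, zero_smul, zero_smul, add_zero, add_zero]

theorem commute_sElt_sElt {x y x' y' : Fin m ⊕ Fin m → F} (c d : F) (h : sympForm m F x y = 0)
    (h1 : sympForm m F x' x = 0) (h2 : sympForm m F x' y = 0) (h3 : sympForm m F y' x = 0)
    (h4 : sympForm m F y' y = 0) : Commute (sElt x y c) (sElt x' y' d) := by
  have := conj_sElt (sElt x y c) x' y' d
  rw [sElt_fix h c h1 h2, sElt_fix h c h3 h4, mul_inv_eq_iff_eq_mul] at this
  exact this

/-- Pairwise orthogonal centres with all transvections and all pair elements in `K` span a space of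
centres. -/
theorem span_subset_Wset {K : Subgroup (symplecticGroup (Fin m) F)} {ι : Type*}
    (e : ι → Fin m ⊕ Fin m → F) (horth : ∀ i j, sympForm m F (e i) (e j) = 0)
    (hs : ∀ i j c, sElt (e i) (e j) c ∈ K) (ht : ∀ i c, tmat (e i) c ∈ K) :
    ∀ v ∈ Submodule.span F (Set.range e), v ∈ Wset K := by
  have horth' : ∀ v ∈ Submodule.span F (Set.range e), ∀ w ∈ Submodule.span F (Set.range e),
      sympForm m F v w = 0 := by
    intro v hv w hw
    induction hv, hw using Submodule.span_induction₂ with
    | mem_mem x y hx hy => obtain ⟨i, rfl⟩ := hx; obtain ⟨j, rfl⟩ := hy; exact horth i j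
    | zero_left y _ => exact form_zero_left y
    | zero_right x _ => rw [sympForm_flip, form_zero_left, neg_zero]
    | add_left x y z _ _ _ h1 h2 => rw [form_add_left, h1, h2, add_zero]
    | add_right x y z _ _ _ h1 h2 => rw [form_add_right, h1, h2, add_zero]
    | smul_left r x y _ _ h => rw [form_smul_left, h, mul_zero]
    | smul_right r x y _ _ h => rw [form_smul_right, h, mul_zero]
  have hpair : ∀ v ∈ Submodule.span F (Set.range e), ∀ j c, sElt v (e j) c ∈ K := by
    intro v hv j
    have hj : e j ∈ Submodule.span F (Set.range e) := Submodule.subset_span ⟨j, rfl⟩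
    induction hv using Submodule.span_induction with
    | mem x hx => obtain ⟨i, rfl⟩ := hx; exact hs i j
    | zero =>
      intro c
      have : sElt 0 (e j) c = 1 := sp_ext fun z => by
        rw [sElt_mulVec (form_zero_left _), sympForm_flip (0 : Fin m ⊕ Fin m → F) z, form_zero_left]
        simp
      rw [this]
      exact K.one_mem
    | add x y hx hy ihx ihy =>
      intro c
      rw [sElt_add_left_orth (horth' x hx _ hj) (horth' y hy _ hj) (horth' y hy x hx)]
      exact mul_mem (ihx c) (ihy c)
    | smul r x hx ih =>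
      intro c
      rw [sElt_smul_left (horth' x hx _ hj)]
      exact ih _
  have hpair' : ∀ v ∈ Submodule.span F (Set.range e), ∀ w ∈ Submodule.span F (Set.range e),
      ∀ c, sElt v w c ∈ K := by
    intro v hv w hw
    induction hw using Submodule.span_induction with
    | mem x hx => obtain ⟨j, rfl⟩ := hx; exact hpair v hv j
    | zero =>
      intro c
      have h0 : sympForm m F v 0 = 0 := by rw [sympForm_flip, form_zero_left, neg_zero]
      have : sElt v 0 c = 1 := sp_ext fun z => by
        rw [sElt_mulVec h0, sympForm_flip (0 : Fin m ⊕ Fin m → F) z, form_zero_left]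
        simp
      rw [this]
      exact K.one_mem
    | add x y hx hy ihx ihy =>
      intro c
      rw [sElt_add_right_orth (horth' v hv x hx) (horth' v hv y hy) (horth' y hy x hx)]
      exact mul_mem (ihx c) (ihy c)
    | smul r x hx ih =>
      intro c
      rw [sElt_smul_right (horth' v hv x hx)]
      exact ih _
  intro v hv
  induction hv using Submodule.span_induction with
  | mem x hx => obtain ⟨i, rfl⟩ := hx; exact fun c => ht i c
  | zero => intro c; rw [tmat_zero_vec]; exact K.one_mem
  | add x y hx hy ihx ihy =>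
    intro c
    rw [tmat_add]
    exact mul_mem (mul_mem (hpair' x hx y hy c) (ihy c)) (ihx c)
  | smul r x _ ih => intro c; rw [tmat_smul]; exact ih _

/-- Three conjugates: if `t`, `t'` commute and normalise `G = ⟨U, tUt⁻¹, t'Ut'⁻¹⟩` and together
with `U` generate a perfect finite group, then `G` is everything. -/
theorem eq_top_of_normalized {H : Type*} [Group H] [Finite H] (U t t' : H) (hc : Commute t t')
    (htt : t * (t * U * t⁻¹) * t⁻¹ ∈ Subgroup.closure {U, t * U * t⁻¹, t' * U * t'⁻¹})
    (htt' : t * (t' * U * t'⁻¹) * t⁻¹ ∈ Subgroup.closure {U, t * U * t⁻¹, t' * U * t'⁻¹})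
    (ht't : t' * (t * U * t⁻¹) * t'⁻¹ ∈ Subgroup.closure {U, t * U * t⁻¹, t' * U * t'⁻¹})
    (ht't' : t' * (t' * U * t'⁻¹) * t'⁻¹ ∈ Subgroup.closure {U, t * U * t⁻¹, t' * U * t'⁻¹})
    (hK : Subgroup.closure {U, t, t'} = ⊤) (hp : commutator H = ⊤) :
    Subgroup.closure {U, t * U * t⁻¹, t' * U * t'⁻¹} = ⊤ := by
  set G := Subgroup.closure ({U, t * U * t⁻¹, t' * U * t'⁻¹} : Set H) with hG
  have hU : U ∈ G := Subgroup.subset_closure (by simp)
  have hnorm : ∀ s : H, (∀ x ∈ ({U, t * U * t⁻¹, t' * U * t'⁻¹} : Set H), s * x * s⁻¹ ∈ G) →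
      s ∈ Subgroup.normalizer (G : Set H) := by
    intro s hs
    have h1 : G.map (MulAut.conj s).toMonoidHom = G := by
      refine Subgroup.eq_of_le_of_card_ge ?_ ?_
      · rw [hG, MonoidHom.map_closure, Subgroup.closure_le]
        rintro _ ⟨x, hx, rfl⟩
        exact hs x hx
      · exact (Nat.card_congr (G.equivMapOfInjective _ (MulAut.conj s).injective).toEquiv).le
    rw [Subgroup.mem_normalizer_iff]
    intro x
    constructor
    · intro hx
      have hm := Subgroup.mem_map_of_mem (MulAut.conj s).toMonoidHom hx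
      rwa [h1] at hm
    · intro hx
      rw [← h1] at hx
      obtain ⟨y, hy, e⟩ := hx
      simp at e
      exact e ▸ hy
  have hN : G.Normal := by
    rw [← Subgroup.normalizer_eq_top_iff, eq_top_iff, ← hK, Subgroup.closure_le]
    rintro s (rfl | rfl | rfl)
    · exact Subgroup.le_normalizer hU
    · refine hnorm _ ?_
      rintro x (rfl | rfl | rfl)
      exacts [Subgroup.subset_closure (by simp), htt, htt']
    · refine hnorm _ ?_
      rintro x (rfl | rfl | rfl)
      exacts [Subgroup.subset_closure (by simp), ht't, ht't']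
  let π := QuotientGroup.mk' G
  have hgen : ∀ s ∈ ({U, t, t'} : Set H), ∀ r ∈ ({U, t, t'} : Set H), Commute (π s) (π r) := by
    have hπU : π U = 1 := (QuotientGroup.eq_one_iff U).2 hU
    rintro s (rfl | rfl | rfl) r (rfl | rfl | rfl) <;>
      first
        | exact Commute.refl _
        | exact (hπU ▸ Commute.one_left _)
        | exact (hπU ▸ Commute.one_right _)
        | exact hc.map π
        | exact hc.symm.map π
  have hab : ∀ x y : H, Commute (π x) (π y) := by
    intro x y
    have hx : x ∈ (Subgroup.centralizer (π '' {U, t, t'})).comap π := by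
      have : Subgroup.closure ({U, t, t'} : Set H) ≤
          (Subgroup.centralizer (π '' {U, t, t'})).comap π := by
        rw [Subgroup.closure_le]
        intro s hs
        rintro _ ⟨r, hr, rfl⟩
        exact hgen r hr s hs
      exact this (hK ▸ Subgroup.mem_top x)
    have hy : y ∈ (Subgroup.centralizer {π x}).comap π := by
      have : Subgroup.closure ({U, t, t'} : Set H) ≤ (Subgroup.centralizer {π x}).comap π := by
        rw [Subgroup.closure_le]
        intro s hs
        rintro _ rfl
        exact (hx (π s) ⟨s, hs, rfl⟩).symm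
      exact this (hK ▸ Subgroup.mem_top y)
    exact hy (π x) rfl
  rw [eq_top_iff, ← hp, commutator, Subgroup.commutator_le]
  intro x _ y _
  rw [← QuotientGroup.eq_one_iff]
  change π ⁅x, y⁆ = 1
  rw [map_commutatorElement, commutatorElement_eq_one_iff_commute]
  exact hab x y

/-- An additive subgroup containing `1` and stable under multiplication by the square of a
generator of the unit group is everything. -/
theorem eq_top_of_sq_stable [Fintype F] {A : AddSubgroup F} {w : Fˣ}
    (hw : ∀ x : Fˣ, x ∈ Subgroup.zpowers w) (h1 : (1 : F) ∈ A)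
    (hst : ∀ c ∈ A, (w : F) * w * c ∈ A) (z : F) : z ∈ A := by
  classical
  have hpow : ∀ k : ℕ, ((w : F) ^ k) * (w : F) ^ k ∈ A := by
    intro k
    induction k with
    | zero => simpa using h1
    | succ k ih =>
      rw [show (w : F) ^ (k + 1) * (w : F) ^ (k + 1) = (w : F) * w * ((w : F) ^ k * (w : F) ^ k) by ring]
      exact hst _ ih
  have hsq : ∀ x : F, x * x ∈ A := by
    intro x
    by_cases hx : x = 0
    · rw [hx, mul_zero]; exact A.zero_mem
    obtain ⟨k, hk⟩ := (IsOfFinOrder.mem_powers_iff_mem_zpowers (isOfFinOrder_of_finite w)).2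
      (hw (Units.mk0 x hx))
    have hk' : (w : F) ^ k = x := by
      have := congrArg (fun u : Fˣ => (u : F)) hk
      simpa using this
    rw [← hk']
    exact hpow k
  by_cases h2 : (2 : F) = 0
  · have : CharP F 2 := CharTwo.of_one_ne_zero_of_two_eq_zero one_ne_zero h2
    obtain ⟨r, hr⟩ := FiniteField.isSquare_of_char_two (ringChar.eq F 2 ▸ rfl : ringChar F = 2) z
    rw [hr]
    exact hsq r
  · rw [show z = (z + 1) / 2 * ((z + 1) / 2) - (z - 1) / 2 * ((z - 1) / 2) by field_simp; ring]
    exact A.sub_mem (hsq _) (hsq _)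

end CfsgLib.RegUnip.SpGen
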