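import Cfsg.Agent.Lib.RegUnip.TwoGen
import Cfsg.Agent.Lib.RegUnip.SpElem

/-!
A regular unipotent element of `Sp_{2n}` with an orbit `a_j` whose Gram matrix is `φ(j - i)`,
`φ m = 0` for `|m| < n` and `φ n = 1`.
-/

set_option autoImplicit false

namespace CfsgLib.RegUnip.SpGen

open Cfsg Matrix CfsgLib.Sp CfsgLib.RegUnip.TwoGen

/-- The data of a regular unipotent symplectic element with its orbit. -/
structure Model (F : Type*) [Field F] (n : ℕ) where
  U : symplecticGroup (Fin n) F
  a : ℤ → Fin n ⊕ Fin n → F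
  φ : ℤ → F
  act : ∀ j, U.1 *ᵥ a j = a (j + 1)
  form : ∀ i j, sympForm n F (a i) (a j) = φ (j - i)
  φ_small : ∀ m : ℤ, -(n : ℤ) < m → m < n → φ m = 0
  φ_top : φ n = 1
  φ_odd : ∀ m, φ (-m) = -φ m
  spans : Submodule.span F (Set.range fun k : Fin (2 * n) => a (k.val : ℤ)) = ⊤
  indep : LinearIndependent F fun k : Fin (2 * n) => a (k.val : ℤ)
  recur : ∀ j, (∑ i ∈ Finset.range (2 * n + 1),
    ((-1 : F) ^ (i + 2 * n) * ((2 * n).choose i : F)) • a (j + i)) = 0
  nilp : IsNilpotent ((U : Matrix (Fin n ⊕ Fin n) (Fin n ⊕ Fin n) F) - 1)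
  regular : ((U : Matrix (Fin n ⊕ Fin n) (Fin n ⊕ Fin n) F) - 1) ^ (2 * n - 1) ≠ 0

variable {F : Type*} [Field F] {n : ℕ}

theorem ai_recur [NeZero (2 * n)] (j : ℤ) : (∑ i ∈ Finset.range (2 * n + 1),
    ((-1 : F) ^ (i + 2 * n) * ((2 * n).choose i : F)) • ai (2 * n) F (j + i)) = 0 := by
  have e := congrArg (fun A : Matrix (Fin (2 * n)) (Fin (2 * n)) F => A *ᵥ ai (2 * n) F j)
    (shiftMat_pow_eq_zero (F := F) (2 * n))
  simp only [shiftMat_pow_sum, Matrix.sum_mulVec, zero_mulVec, smul_mulVec, up_mulVec_ai,
    add_comm _ j] at e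
  exact e

theorem phi_recur [NeZero (2 * n)] (f : Fin (2 * n) → F) (j : ℤ) :
    (∑ i ∈ Finset.range (2 * n + 1),
      ((-1 : F) ^ (i + 2 * n) * ((2 * n).choose i : F)) * phi f (j + i)) = 0 := by
  have e := congrArg (fun v => f ⬝ᵥ v) (ai_recur (F := F) (n := n) j)
  simpa [dotProduct_sum, phi] using e

/-- A functional whose pairing is odd, vanishes on `(-n, n)` and is `1` at `n`. -/
theorem exists_odd_functional (hn : 0 < n) [NeZero (2 * n)] :
    ∃ f : Fin (2 * n) → F, (∀ m : ℤ, -(n : ℤ) < m → m < n → phi f m = 0) ∧ phi f n = 1 ∧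
      ∀ m, phi f (-m) = -phi f m := by
  obtain ⟨f, hf⟩ := exists_functional (F := F) (n := 2 * n) (1 - (n : ℤ))
    (fun k => if k.val + 1 = 2 * n then 1 else 0)
  have hsm : ∀ m : ℤ, -(n : ℤ) < m → m < n → phi f m = 0 := by
    intro m h1 h2
    have := hf ⟨(m + n - 1).toNat, by omega⟩
    rw [if_neg (by simp only; omega), show (1 - (n : ℤ)) + ((m + n - 1).toNat : ℕ) = m by omega] at this
    exact this
  have htop : phi f n = 1 := by
    have := hf ⟨2 * n - 1, by omega⟩
    rw [if_pos (by simp only; omega), show (1 - (n : ℤ)) + ((2 * n - 1 : ℕ) : ℤ) = n by omega] at this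
    exact this
  refine ⟨f, hsm, htop, ?_⟩
  have hbot : phi f (-(n : ℤ)) = -1 := by
    have h := phi_recur (F := F) (n := n) f (-(n : ℤ))
    rw [Finset.sum_range_succ, Finset.sum_eq_single 0 (fun i hi hi0 => by
      rw [Finset.mem_range] at hi
      rw [hsm _ (by omega) (by omega), mul_zero]) (fun h0 => absurd (Finset.mem_range.2 (by omega)) h0),
      show -(n : ℤ) + ((2 * n : ℕ) : ℤ) = n by omega, htop] at h
    simp at h
    linear_combination h
  let D : ℤ → F := fun m => phi f m + phi f (-m)
  suffices hD : ∀ k : ℕ, D k = 0 by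
    intro m
    have : D m = 0 := by
      rcases Int.natAbs_eq m with h | h
      · rw [h]; exact hD _
      · have := hD m.natAbs
        rw [h]
        simpa [D, add_comm] using this
    simp only [D] at this
    linear_combination this
  intro k
  induction k using Nat.strong_induction_on with
  | _ k ih =>
    rcases lt_trichotomy k n with hk | hk | hk
    · simp only [D]
      rw [hsm _ (by omega) (by omega), hsm _ (by omega) (by omega), add_zero]
    · simp only [D]
      rw [hk, htop, hbot, add_neg_cancel]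
    · have hrec : (∑ i ∈ Finset.range (2 * n + 1),
          ((-1 : F) ^ (i + 2 * n) * ((2 * n).choose i : F)) * D ((k : ℤ) - 2 * n + i)) = 0 := by
        simp only [D, mul_add, Finset.sum_add_distrib]
        rw [phi_recur, zero_add, ← Finset.sum_range_reflect]
        have h := phi_recur (F := F) (n := n) f (-(k : ℤ))
        rw [← h]
        refine Finset.sum_congr rfl fun i hi => ?_
        rw [Finset.mem_range] at hi
        have hc : (2 * n).choose (2 * n + 1 - 1 - i) = (2 * n).choose i := by
          rw [Nat.add_sub_cancel, Nat.choose_symm (by omega)]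
        have hs : (-1 : F) ^ (2 * n + 1 - 1 - i + 2 * n) = (-1 : F) ^ (i + 2 * n) := by
          rw [neg_one_pow_eq_pow_mod_two, neg_one_pow_eq_pow_mod_two (n := i + 2 * n)]
          congr 1
          omega
        rw [hc, hs, show -((k : ℤ) - 2 * n + ((2 * n + 1 - 1 - i : ℕ) : ℤ)) = -(k : ℤ) + i by omega]
      rw [Finset.sum_range_succ, Finset.sum_eq_zero (fun i hi => by
        rw [Finset.mem_range] at hi
        have : D ((k : ℤ) - 2 * n + i) = 0 := by
          rcases Int.natAbs_eq ((k : ℤ) - 2 * n + i) with h | h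
          · rw [h]; exact ih _ (by omega)
          · have h' := ih ((k : ℤ) - 2 * n + i).natAbs (by omega)
            rw [h]
            simpa [D, add_comm] using h'
        rw [this, mul_zero]), zero_add,
        show (k : ℤ) - 2 * n + ((2 * n : ℕ) : ℤ) = k by omega, Nat.choose_self] at hrec
      simpa [Even.neg_one_pow (even_two_mul n), ← two_mul, pow_add] using hrec

theorem exists_model (hn : 0 < n) : Nonempty (Model F n) := by
  classical
  have : NeZero (2 * n) := ⟨by omega⟩
  obtain ⟨f, hsm, htop, hodd⟩ := exists_odd_functional (F := F) hn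
  let N := 2 * n
  -- the orbit window is a basis of the old space
  have hind : LinearIndependent F fun k : Fin (2 * n) => ai (2 * n) F (k.val : ℤ) := by
    rw [Fintype.linearIndependent_iff]
    intro c hc i
    obtain ⟨g, hg⟩ := exists_functional (F := F) (n := 2 * n) 0 (Pi.single i 1)
    have := congrArg (fun v => g ⬝ᵥ v) hc
    simp only [dotProduct_sum, dotProduct_smul, dotProduct_zero, smul_eq_mul] at this
    rw [Finset.sum_eq_single i] at this
    · have hgi := hg i
      rw [zero_add, phi, Pi.single_eq_same] at hgi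
      rwa [hgi, mul_one] at this
    · intro k _ hk
      have hgk := hg k
      rw [zero_add, phi, Pi.single_eq_of_ne hk] at hgk
      rw [hgk, mul_zero]
    · simp
  let b := basisOfLinearIndependentOfCardEqFinrank hind (by simp)
  have hb : ∀ k : Fin (2 * n), b k = ai (2 * n) F (k.val : ℤ) := fun k => by simp [b]
  -- images of the basis
  let v : Fin (2 * n) → (Fin n ⊕ Fin n → F) := fun k =>
    if h : k.val < n then Pi.single (Sum.inl ⟨k.val, h⟩) 1
    else Sum.elim 0 fun i => -phi f ((k.val : ℤ) - i.val)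
  let A := b.constr F v
  have hA : ∀ k : Fin (2 * n), A (ai (2 * n) F (k.val : ℤ)) = v k := fun k => by
    rw [← hb]; exact b.constr_basis F v k
  have hgram : ∀ i k : Fin (2 * n), sympForm n F (v i) (v k) = phi f ((k.val : ℤ) - i.val) := by
    intro i k
    rw [sympForm_eq_sum]
    simp only [v]
    split_ifs with hi hk hk
    · rw [hsm _ (by omega) (by omega)]; simp
    · rw [Finset.sum_eq_single ⟨i.val, hi⟩]
      · simp
      · intro j _ hj
        simp [hj]
      · simp
    · rw [Finset.sum_eq_single ⟨k.val, hk⟩]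
      · simp only [Sum.elim_inr, Pi.single_eq_same, Sum.elim_inl, Pi.zero_apply, zero_mul, sub_zero,
          mul_one]
        rw [← hodd, neg_sub]
      · intro j _ hj
        simp [hj]
      · simp
    · rw [hsm _ (by omega) (by omega)]; simp
  have hleft : ∀ (i : Fin (2 * n)) (x : Fin (2 * n) → F),
      sympForm n F (v i) (A x) = fi f (i.val : ℤ) ⬝ᵥ x := by
    intro i x
    rw [← b.sum_repr x, map_sum, dotProduct_sum, ← sympBilin_apply, map_sum]
    refine Finset.sum_congr rfl fun k _ => ?_
    rw [map_smul, map_smul, sympBilin_apply, hb, hA, hgram, dotProduct_smul, pair]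
  have hform : ∀ i j : ℤ,
      sympForm n F (A (ai (2 * n) F i)) (A (ai (2 * n) F j)) = phi f (j - i) := by
    intro i j
    have h1 : ∀ x : Fin (2 * n) → F,
        sympForm n F (A (ai (2 * n) F i)) (A x) = fi f i ⬝ᵥ x := by
      intro x
      rw [← b.sum_repr x, map_sum, dotProduct_sum, ← sympBilin_apply, map_sum]
      refine Finset.sum_congr rfl fun k _ => ?_
      rw [map_smul, map_smul, sympBilin_apply, hb, dotProduct_smul, pair, hA, sympForm_flip,
        hleft, pair, ← hodd, neg_sub]
    rw [h1, pair]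
  have hinj : Function.Injective A := by
    rw [← LinearMap.ker_eq_bot, LinearMap.ker_eq_bot']
    intro x hx
    have h0 : ∀ i : Fin (2 * n), ∑ k, b.repr x k * phi f ((k.val : ℤ) - i.val) = 0 := by
      intro i
      have e := hleft i x
      rw [hx, ← sympBilin_apply, map_zero, ← b.sum_repr x, dotProduct_sum] at e
      rw [e]
      refine Finset.sum_congr rfl fun k _ => ?_
      rw [dotProduct_smul, hb, pair, smul_eq_mul]
    have hlow : ∀ (k : ℕ) (hk : k < n), b.repr x ⟨k, by omega⟩ = 0 := by
      intro k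
      induction k using Nat.strong_induction_on with
      | _ k ih =>
        intro hk
        have := h0 ⟨k + n, by omega⟩
        rw [Finset.sum_eq_single (⟨k, by omega⟩ : Fin (2 * n))] at this
        · rwa [show ((k : ℕ) : ℤ) - ((k + n : ℕ) : ℤ) = -(n : ℤ) by omega, hodd, htop, mul_neg,
            mul_one, neg_eq_zero] at this
        · intro l _ hl
          have hl' : l.val ≠ k := fun e => hl (Fin.ext e)
          rcases lt_or_gt_of_ne hl' with h | h
          · rw [ih l.val h (by omega), zero_mul]
          · rw [hsm _ (by simp only; omega) (by simp only; omega), mul_zero]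
        · simp
    have hall : ∀ (d : ℕ) (k : Fin (2 * n)), 2 * n ≤ k.val + d + 1 → b.repr x k = 0 := by
      intro d
      induction d using Nat.strong_induction_on with
      | _ d ih =>
        intro k hk
        by_cases hkn : k.val < n
        · exact hlow k.val hkn
        have := h0 ⟨k.val - n, by omega⟩
        rw [Finset.sum_eq_single k] at this
        · rwa [show ((k.val : ℕ) : ℤ) - ((k.val - n : ℕ) : ℤ) = (n : ℤ) by omega, htop,
            mul_one] at this
        · intro l _ hl
          have hl' : l.val ≠ k.val := fun e => hl (Fin.ext e)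
          rcases lt_or_gt_of_ne hl' with h | h
          · rw [hsm _ (by simp only; omega) (by simp only; omega), mul_zero]
          · rw [ih (2 * n - l.val - 1) (by omega) l (by omega), zero_mul]
        · simp
    exact b.ext_elem fun k => by simp [hall (2 * n) k (by omega)]
  let E : (Fin (2 * n) → F) ≃ₗ[F] (Fin n ⊕ Fin n → F) :=
    LinearEquiv.ofInjectiveOfFinrankEq A hinj (by simp; omega)
  have hE : ∀ x, E x = A x := fun x => rfl
  let Um : Matrix (Fin n ⊕ Fin n) (Fin n ⊕ Fin n) F :=
    LinearMap.toMatrix' (A.comp ((Matrix.toLin' (up (2 * n) F 1)).comp E.symm.toLinearMap))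
  have hUm : ∀ x, Um *ᵥ A x = A (up (2 * n) F 1 *ᵥ x) := by
    intro x
    simp only [Um, LinearMap.toMatrix'_mulVec, LinearMap.comp_apply, Matrix.toLin'_apply]
    rw [← hE x, LinearEquiv.coe_coe, E.symm_apply_apply]
  have hUmem : Um ∈ symplecticGroup (Fin n) F := by
    rw [mem_symplecticGroup_iff]
    intro x y
    obtain ⟨x, rfl⟩ := E.surjective x
    obtain ⟨y, rfl⟩ := E.surjective y
    rw [hE, hE, hUm, hUm, ← b.sum_repr x, ← b.sum_repr y, mulVec_sum, mulVec_sum, map_sum, map_sum,
      map_sum, map_sum]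
    simp only [← sympBilin_apply, map_sum, LinearMap.sum_apply, map_smul, LinearMap.smul_apply,
      mulVec_smul, hb, up_mulVec_ai]
    simp only [sympBilin_apply, hform]
    simp only [show ∀ s t : ℤ, 1 + s - (1 + t) = s - t from fun s t => by ring]
  have key : ∀ (k : ℕ) (x), (Um - 1) ^ k *ᵥ A x = A (shiftMat (2 * n) F ^ k *ᵥ x) := by
    intro k
    induction k with
    | zero => simp
    | succ k ih =>
      intro x
      rw [pow_succ, ← mulVec_mulVec, sub_mulVec, hUm, one_mulVec, ← map_sub, ih,
        up, zpow_one, regUnip_val, add_mulVec, one_mulVec, add_sub_cancel_left, pow_succ,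
        ← mulVec_mulVec]
  refine ⟨⟨⟨Um, hUmem⟩, fun j => A (ai (2 * n) F j), phi f, fun j => ?_, hform, hsm, htop, hodd,
    ?_, ?_, fun j => ?_, ?_, ?_⟩⟩
  · show Um *ᵥ A _ = A _
    rw [hUm, up_mulVec_ai, add_comm]
  · rw [show (fun k : Fin (2 * n) => A (ai (2 * n) F (k.val : ℤ))) = ⇑E ∘ ⇑b from
      funext fun k => by simp [hE, hb], Set.range_comp, ← LinearEquiv.coe_coe,
      Submodule.span_image, b.span_eq, Submodule.map_top, LinearEquiv.range]
  · exact hind.map' A (LinearMap.ker_eq_bot.2 hinj)
  · simp only [← map_smul, ← map_sum]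
    rw [ai_recur, map_zero]
  · refine ⟨2 * n, ?_⟩
    refine Matrix.ext_of_mulVec_single fun j => ?_
    obtain ⟨x, hx⟩ := E.surjective (Pi.single j 1)
    rw [← hx, hE, zero_mulVec]
    rw [key, shiftMat_pow_eq_zero, zero_mulVec, map_zero]
  · intro h0
    apply shiftMat_pow_pred_ne_zero (F := F) (2 * n) (by omega)
    refine Matrix.ext_of_mulVec_single fun j => hinj ?_
    rw [← key]
    change ((Um - 1) ^ (2 * n - 1)) *ᵥ _ = _
    rw [show (Um - 1) ^ (2 * n - 1) = 0 from h0, zero_mulVec, zero_mulVec, map_zero]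

end CfsgLib.RegUnip.SpGen
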