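import Cfsg.Agent.Lib.RegUnip.SpCases

/-!
The three conjugating elements for `Sp_{2n}(q)` in the three cases `n ≥ 3`, `n = 2` with `q` odd,
and `n = 2` with `q ≥ 4` even.
-/

set_option autoImplicit false

namespace CfsgLib.RegUnip.SpGen

open Cfsg Matrix CfsgLib.Sp

variable {F : Type*} [Field F] [Fintype F] {n : ℕ}

theorem shift_mul_conj {G : Type*} [Group G] (t U : G) :
    t * (U * t⁻¹ * U⁻¹) * U = t * U * t⁻¹ := by group

theorem conj_mul_three {G : Type*} [Group G] (t d U : G) :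
    t * (d * U) * t⁻¹ = (t * d * t⁻¹) * (t * U * t⁻¹) := by group

namespace Model

variable (M : Model F n)

/-- `n ≥ 3`. -/
theorem three_large (hn : 3 ≤ n) (hp : commutator (symplecticGroup (Fin n) F) = ⊤) :
    ∃ g h : symplecticGroup (Fin n) F,
      Subgroup.closure {M.U, g * M.U * g⁻¹, h * M.U * h⁻¹} = ⊤ := by
  obtain ⟨w, hw⟩ := IsCyclic.exists_generator (α := Fˣ)
  let t := tmat (M.a 0) (1 : F)
  let t' := sElt (M.a 0) (M.a 1) (w : F)
  refine ⟨t, t', ?_⟩
  have h01 : sympForm n F (M.a 0) (M.a 1) = 0 := M.orth (by omega) (by omega)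
  have h12 : sympForm n F (M.a 1) (M.a 2) = 0 := M.orth (by omega) (by omega)
  have ho : ∀ i j : ℤ, 0 ≤ i → i ≤ 2 → 0 ≤ j → j ≤ 2 → sympForm n F (M.a i) (M.a j) = 0 :=
    fun i j h1 h2 h3 h4 => M.orth (by omega) (by omega)
  set d := M.U * t⁻¹ * M.U⁻¹ with hd
  set d' := M.U * t'⁻¹ * M.U⁻¹ with hd'
  have ed : d = tmat (M.a 1) (-1 : F) := by
    rw [hd, show t⁻¹ = tmat (M.a 0) (-1 : F) from tmat_inv _ _, conj_tmat, M.act, zero_add]
  have ed' : d' = sElt (M.a 1) (M.a 2) (-(w : F)) := by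
    rw [hd', show t'⁻¹ = sElt (M.a 0) (M.a 1) (-(w : F)) from sElt_inv h01 _, conj_sElt, M.act,
      M.act]
    norm_num
  have ctd : Commute t d := by
    rw [ed]; exact tmat_commute _ _ (ho _ _ (by omega) (by omega) le_rfl (by omega))
  have ctd' : Commute t d' := by
    rw [ed']
    exact commute_tmat_sElt _ _ (ho _ _ (by omega) (by omega) le_rfl (by omega))
      (ho _ _ (by omega) (by omega) le_rfl (by omega))
  have ct'd : Commute t' d := by
    rw [ed]
    exact (commute_tmat_sElt _ _ (ho _ _ le_rfl (by omega) (by omega) (by omega))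
      (ho _ _ (by omega) (by omega) (by omega) (by omega))).symm
  have ct'd' : Commute t' d' := by
    rw [ed']
    exact commute_sElt_sElt _ _ h01 (ho _ _ (by omega) (by omega) le_rfl (by omega))
      (ho _ _ (by omega) (by omega) (by omega) (by omega))
      (ho _ _ (by omega) (by omega) le_rfl (by omega))
      (ho _ _ (by omega) (by omega) (by omega) (by omega))
  have ctt' : Commute t t' :=
    commute_tmat_sElt _ _ (sympForm_self _) (M.orth (by omega) (by omega))
  have hgen : ∀ s ∈ ({t, t'} : Set (symplecticGroup (Fin n) F)), ∀ r ∈ ({t, t'} : Set _),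
      s * (r * M.U * r⁻¹) * s⁻¹ = r * (M.U * r⁻¹ * M.U⁻¹) * (s * M.U * s⁻¹) := by
    intro s hs r hr
    have hsr : Commute s (r * (M.U * r⁻¹ * M.U⁻¹)) := by
      rcases hs with rfl | rfl <;> rcases hr with rfl | rfl
      exacts [(Commute.refl _).mul_right ctd, ctt'.mul_right ctd', ctt'.symm.mul_right ct'd,
        (Commute.refl _).mul_right ct'd']
    rw [← shift_mul_conj r M.U, conj_mul_three, hsr.eq, mul_inv_cancel_right]
  have hmem : ∀ s ∈ ({t, t'} : Set (symplecticGroup (Fin n) F)), ∀ r ∈ ({t, t'} : Set _),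
      s * (r * M.U * r⁻¹) * s⁻¹ ∈
        Subgroup.closure {M.U, t * M.U * t⁻¹, t' * M.U * t'⁻¹} := by
    intro s hs r hr
    have hU : M.U ∈ Subgroup.closure {M.U, t * M.U * t⁻¹, t' * M.U * t'⁻¹} :=
      Subgroup.subset_closure (by simp)
    have hconj : ∀ x ∈ ({t, t'} : Set (symplecticGroup (Fin n) F)), x * M.U * x⁻¹ ∈
        Subgroup.closure {M.U, t * M.U * t⁻¹, t' * M.U * t'⁻¹} := by
      rintro x (rfl | rfl) <;> exact Subgroup.subset_closure (by simp)
    rw [hgen s hs r hr, show r * (M.U * r⁻¹ * M.U⁻¹) = r * M.U * r⁻¹ * M.U⁻¹ by group]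
    exact mul_mem (mul_mem (hconj r hr) (inv_mem hU)) (hconj s hs)
  exact eq_top_of_normalized M.U t t' ctt' (hmem t (by simp) t (by simp))
    (hmem t (by simp) t' (by simp)) (hmem t' (by simp) t (by simp))
    (hmem t' (by simp) t' (by simp)) (M.closure_eq_top_large hn hw) hp

omit [Fintype F] in
theorem neg_two (M : Model F 2) : sympForm 2 F (M.a 2) (M.a 0) = -1 := by
  simpa using M.form_bot 0

omit [Fintype F] in
theorem pos_two (M : Model F 2) : sympForm 2 F (M.a 0) (M.a 2) = 1 := by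
  simpa using M.form_top 0

/-- `n = 2`, odd characteristic. -/
theorem three_two_odd (M : Model F 2) (h2 : (2 : F) ≠ 0)
    (hp : commutator (symplecticGroup (Fin 2) F) = ⊤) :
    ∃ g h : symplecticGroup (Fin 2) F,
      Subgroup.closure {M.U, g * M.U * g⁻¹, h * M.U * h⁻¹} = ⊤ := by
  obtain ⟨w, hw⟩ := IsCyclic.exists_generator (α := Fˣ)
  let t := tmat (M.a 0) (1 : F)
  let x := sElt (M.a 0) (M.a 1) (w : F)
  refine ⟨t, x, ?_⟩
  set G := Subgroup.closure ({M.U, t * M.U * t⁻¹, x * M.U * x⁻¹} : Set _) with hG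
  have h01 : sympForm 2 F (M.a 0) (M.a 1) = 0 := M.orth (by omega) (by omega)
  have h10 : sympForm 2 F (M.a 1) (M.a 0) = 0 := M.orth (by omega) (by omega)
  have h12 : sympForm 2 F (M.a 1) (M.a 2) = 0 := M.orth (by omega) (by omega)
  have h21 : sympForm 2 F (M.a 2) (M.a 1) = 0 := M.orth (by omega) (by omega)
  have hU : M.U ∈ G := Subgroup.subset_closure (by simp)
  have htU : t * M.U * t⁻¹ ∈ G := Subgroup.subset_closure (by simp)
  have hxU : x * M.U * x⁻¹ ∈ G := Subgroup.subset_closure (by simp)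
  let b := tmat (M.a 1) (1 : F)
  let d := t * b⁻¹
  let y := sElt (M.a 1) (M.a 2) (-(w : F))
  let d' := x * y
  have ed : t * M.U * t⁻¹ = d * M.U := by
    rw [← shift_mul_conj t M.U, show t⁻¹ = tmat (M.a 0) (-1 : F) from tmat_inv _ _, conj_tmat,
      M.act, zero_add, show d = t * tmat (M.a 1) (-1 : F) by rw [← tmat_inv]]
  have ed' : x * M.U * x⁻¹ = d' * M.U := by
    rw [← shift_mul_conj x M.U, show x⁻¹ = sElt (M.a 0) (M.a 1) (-(w : F)) from sElt_inv h01 _,
      conj_sElt, M.act, M.act]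
    norm_num [d', y]
  have hd : d ∈ G := by
    rw [show d = (t * M.U * t⁻¹) * M.U⁻¹ by rw [ed, mul_inv_cancel_right]]
    exact mul_mem htU (inv_mem hU)
  have hd' : d' ∈ G := by
    rw [show d' = (x * M.U * x⁻¹) * M.U⁻¹ by rw [ed', mul_inv_cancel_right]]
    exact mul_mem hxU (inv_mem hU)
  have ctx : Commute t x := commute_tmat_sElt _ _ (sympForm_self _) h10
  have ctb : Commute t b := tmat_commute _ _ h10
  have cbx : Commute b x := commute_tmat_sElt _ _ h01 (sympForm_self _)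
  have cby : Commute b y := commute_tmat_sElt _ _ (sympForm_self _) h21
  have cbd' : Commute b d' := cbx.mul_right cby
  have hxy : x * y * x⁻¹ = y * tmat (M.a 1) (2 * ((w : F) * w)) := by
    have hx2 : x.1 *ᵥ M.a 2 = M.a 2 + (-(w : F)) • M.a 1 := by
      rw [sElt_mulVec h01, M.neg_two, h21]; simp
    rw [conj_sElt, sElt_fix h01 _ h10 (sympForm_self _), hx2,
      sElt_add_right_orth h12 (by rw [form_smul_right, sympForm_self, mul_zero])
        (by rw [form_smul_left, h12, mul_zero]),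
      sElt_smul_right (sympForm_self _), sElt_self, neg_mul_neg]
  let c := tmat (M.a 1) (2 * ((w : F) * w))
  have hc : c ∈ G := by
    have hy0 : d'.1 *ᵥ M.a 0 = M.a 0 + (-(w : F)) • M.a 1 := by
      rw [mulVec_mul, sElt_mulVec h12, h01, M.pos_two]
      simp only [mul_zero, zero_smul, add_zero, mul_one, mulVec_add, mulVec_smul]
      rw [sElt_fix h01 _ (sympForm_self _) h01, sElt_fix h01 _ h10 (sympForm_self _)]
    have hy1 : d'.1 *ᵥ M.a 1 = M.a 1 := by
      rw [mulVec_mul, sElt_fix h12 _ (sympForm_self _) h12, sElt_fix h01 _ h10 (sympForm_self _)]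
    have he : d * d' * d⁻¹ * d'⁻¹ = x * tmat (M.a 1) (-((w : F) * w)) := by
      have e1 : d * d' * d⁻¹ * d'⁻¹ = t * (d' * t⁻¹ * d'⁻¹) := by
        have : b⁻¹ * d' * b = d' := by rw [mul_assoc, ← cbd'.eq, inv_mul_cancel_left]
        calc d * d' * d⁻¹ * d'⁻¹ = t * ((b⁻¹ * d' * b) * t⁻¹ * d'⁻¹) := by
              simp only [d]; group
          _ = _ := by rw [this]
      rw [e1, show t⁻¹ = tmat (M.a 0) (-1 : F) from tmat_inv _ _, conj_tmat, hy0, tmat_add_smul h01]
      have hc1 : Commute t (sElt (M.a 0) (M.a 1) ((-(w : F)) * -1) *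
          tmat (M.a 1) (-1 * -(w : F) * -(w : F))) :=
        (commute_tmat_sElt _ _ (sympForm_self _) h10).mul_right (tmat_commute _ _ h10)
      rw [← mul_assoc, hc1.eq, mul_assoc, tmat_mul, add_neg_cancel, tmat_zero, mul_one]
      congr 1
      · congr 1; ring
      · congr 1; ring
    have he2 : d' * (x * tmat (M.a 1) (-((w : F) * w))) * d'⁻¹ *
        (x * tmat (M.a 1) (-((w : F) * w)))⁻¹ = c⁻¹ := by
      have e1 : d' * (x * tmat (M.a 1) (-((w : F) * w))) * d'⁻¹ =
          (d' * x * d'⁻¹) * (d' * tmat (M.a 1) (-((w : F) * w)) * d'⁻¹) := by group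
      rw [e1, conj_sElt, conj_tmat, hy0, hy1,
        sElt_add_left_orth h01 (by rw [form_smul_left, sympForm_self, mul_zero])
          (by rw [form_smul_left, h10, mul_zero]),
        sElt_smul_left (sympForm_self _), sElt_self, tmat_inv]
      have hcc : Commute x (tmat (M.a 1) (2 * (-(w : F) * w))) :=
        (commute_tmat_sElt _ _ h01 (sympForm_self _)).symm
      rw [show sElt (M.a 0) (M.a 1) (w : F) = x from rfl, _root_.mul_inv_rev]
      rw [show x * tmat (M.a 1) (2 * (-(w : F) * w)) * tmat (M.a 1) (-((w : F) * w)) *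
          ((tmat (M.a 1) (-((w : F) * w)))⁻¹ * x⁻¹) = x * tmat (M.a 1) (2 * (-(w : F) * w)) * x⁻¹ by
        group, hcc.eq, mul_inv_cancel_right]
      congr 1
      ring
    have := mul_mem (mul_mem (mul_mem hd hd') (inv_mem hd)) (inv_mem hd')
    rw [he] at this
    have h' := mul_mem (mul_mem (mul_mem hd' this) (inv_mem hd')) (inv_mem this)
    rw [he2] at h'
    simpa using inv_mem h'
  refine eq_top_of_normalized M.U t x ctx ?_ ?_ ?_ ?_ ?_ hp
  · show t * (t * M.U * t⁻¹) * t⁻¹ ∈ G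
    rw [ed, conj_mul_three, ed]
    have : t * d * t⁻¹ = d := by
      rw [((Commute.refl t).mul_right ctb.inv_right).eq, mul_inv_cancel_right]
    rw [this]
    exact mul_mem hd (mul_mem hd hU)
  · show t * (x * M.U * x⁻¹) * t⁻¹ ∈ G
    rw [ed', conj_mul_three, ed]
    have : t * d' * t⁻¹ = d * d' * d⁻¹ := by
      have hb : b⁻¹ * d' * b = d' := by rw [mul_assoc, ← cbd'.eq, inv_mul_cancel_left]
      calc t * d' * t⁻¹ = t * (b⁻¹ * d' * b) * t⁻¹ := by rw [hb]
        _ = _ := by simp only [d]; group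
    rw [this]
    exact mul_mem (mul_mem (mul_mem hd hd') (inv_mem hd)) (mul_mem hd hU)
  · show x * (t * M.U * t⁻¹) * x⁻¹ ∈ G
    rw [ed, conj_mul_three, ed']
    have : x * d * x⁻¹ = d := by
      rw [(ctx.symm.mul_right cbx.symm.inv_right).eq, mul_inv_cancel_right]
    rw [this]
    exact mul_mem hd (mul_mem hd' hU)
  · show x * (x * M.U * x⁻¹) * x⁻¹ ∈ G
    rw [ed', conj_mul_three, ed']
    have : x * d' * x⁻¹ = d' * c := by
      rw [show x * d' * x⁻¹ = x * (x * y * x⁻¹) by simp only [d']; group, hxy, ← mul_assoc]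
    rw [this]
    exact mul_mem (mul_mem hd' hc) (mul_mem hd' hU)
  · exact M.closure_eq_top_odd le_rfl h2 hw

/-- `n = 2`, characteristic two, more than two elements. -/
theorem three_two_even (M : Model F 2) (h2 : (2 : F) = 0) (hq : 2 < Fintype.card F) :
    ∃ g h : symplecticGroup (Fin 2) F,
      Subgroup.closure {M.U, g * M.U * g⁻¹, h * M.U * h⁻¹} = ⊤ := by
  classical
  obtain ⟨w, hw⟩ := IsCyclic.exists_generator (α := Fˣ)
  have : CharP F 2 := CharTwo.of_one_ne_zero_of_two_eq_zero one_ne_zero h2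
  have hchar : ringChar F = 2 := ringChar.eq F 2 ▸ rfl
  obtain ⟨r, hr⟩ := FiniteField.isSquare_of_char_two hchar (w : F)
  have hr0 : r ≠ 0 := fun h => w.ne_zero (by rw [hr, h, mul_zero])
  have hneg : ∀ c : F, -c = c := fun c => CharTwo.neg_eq c
  have hper : ∀ j, M.a (j + 4) = M.a j := by
    intro j
    have h := M.recur j
    simp only [Finset.sum_range_succ, Finset.sum_range_zero, zero_add] at h
    rw [show Nat.choose (2 * 2) 0 = 1 from rfl, show Nat.choose (2 * 2) 1 = 4 from rfl,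
      show Nat.choose (2 * 2) 2 = 6 from rfl, show Nat.choose (2 * 2) 3 = 4 from rfl,
      show Nat.choose (2 * 2) 4 = 1 from rfl] at h
    have h4 : (4 : F) = 0 := by linear_combination 2 * h2
    have h6 : (6 : F) = 0 := by linear_combination 3 * h2
    push_cast at h
    simp only [h4, h6, mul_zero, zero_smul, add_zero, mul_one, hneg, one_pow, one_smul] at h
    rw [add_eq_zero_iff_neg_eq] at h
    rw [← h, ← neg_one_smul F, hneg, one_smul]
  have hφ3 : M.φ 3 = 0 := by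
    rw [show M.φ 3 = sympForm 2 F (M.a 1) (M.a 4) by rw [M.form]; rfl,
      show (4 : ℤ) = 0 + 4 from rfl, hper, M.form]
    exact M.φ_small _ (by omega) (by omega)
  have hφm3 : M.φ (-3) = 0 := by rw [M.φ_odd, hφ3, neg_zero]
  let cs : Fin 4 → F := ![r, r, r⁻¹, r⁻¹]
  have hcs : ∀ k, cs k ≠ 0 := by intro k; fin_cases k <;> simp [cs, hr0]
  have hφ2 : M.φ 2 = 1 := by simpa using M.φ_top
  have hφm2 : M.φ (-2) = -1 := by rw [M.φ_odd, hφ2]
  have hgram : ∀ i j : Fin 4, sympForm 2 F (M.a (i.val : ℤ)) (M.a (j.val : ℤ)) =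
      sympForm 2 F (cs i • M.a (i.val : ℤ)) (cs j • M.a (j.val : ℤ)) := by
    intro i j
    rw [form_smul_left, form_smul_right, M.form]
    fin_cases i <;> fin_cases j <;>
      simp [cs, hφ2, hφm2, hφ3, hφm3, hr0, M.φ_small 0 (by omega) (by omega),
        M.φ_small 1 (by omega) (by omega), M.φ_small (-1) (by omega) (by omega)]
  obtain ⟨T, hT⟩ := witt_matrix (fun k : Fin 4 => M.a (k.val : ℤ))
    (fun k : Fin 4 => cs k • M.a (k.val : ℤ)) M.indep
    (M.indep.units_smul fun k => Units.mk0 (cs k) (hcs k)) hgram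
  have T0 : T.1 *ᵥ M.a 0 = r • M.a 0 := hT 0
  have T1 : T.1 *ᵥ M.a 1 = r • M.a 1 := hT 1
  have T2 : T.1 *ᵥ M.a 2 = r⁻¹ • M.a 2 := hT 2
  have T3 : T.1 *ᵥ M.a 3 = r⁻¹ • M.a 3 := hT 3
  have Ti0 : (T⁻¹).1 *ᵥ M.a 0 = r⁻¹ • M.a 0 :=
    inv_fix (by rw [mulVec_smul, T0, smul_smul, inv_mul_cancel₀ hr0, one_smul])
  have Ti1 : (T⁻¹).1 *ᵥ M.a 1 = r⁻¹ • M.a 1 :=
    inv_fix (by rw [mulVec_smul, T1, smul_smul, inv_mul_cancel₀ hr0, one_smul])
  have Ti2 : (T⁻¹).1 *ᵥ M.a 2 = r • M.a 2 :=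
    inv_fix (by rw [mulVec_smul, T2, smul_smul, mul_inv_cancel₀ hr0, one_smul])
  have Ti3 : (T⁻¹).1 *ᵥ M.a 3 = r • M.a 3 :=
    inv_fix (by rw [mulVec_smul, T3, smul_smul, mul_inv_cancel₀ hr0, one_smul])
  let h := T * tmat (M.a 0) (1 : F)
  let h' := sElt (M.a 0) (M.a 1) (1 : F)
  refine ⟨h, h', ?_⟩
  set G := Subgroup.closure ({M.U, h * M.U * h⁻¹, h' * M.U * h'⁻¹} : Set _) with hG
  have hU : M.U ∈ G := Subgroup.subset_closure (by simp)
  let d := h * M.U * h⁻¹ * M.U⁻¹
  have hd : d ∈ G := mul_mem (Subgroup.subset_closure (by simp)) (inv_mem hU)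
  have hm1 : M.a (-1) = M.a 3 := (hper (-1)).symm
  have h4 : M.a (3 + 1) = M.a 0 := hper 0
  have t20 : sympForm 2 F (M.a 2) (M.a 0) = 1 := by rw [M.neg_two, hneg]
  have t10 : sympForm 2 F (M.a 1) (M.a 0) = 0 := M.orth (by omega) (by omega)
  have t30 : sympForm 2 F (M.a 3) (M.a 0) = 0 := by rw [M.form]; exact hφm3
  have hdec : ∀ v, d.1 *ᵥ v =
      T.1 *ᵥ ((tmat (M.a 0) (1 : F)).1 *ᵥ (M.U.1 *ᵥ ((tmat (M.a 0) (1 : F)).1 *ᵥ
        ((T⁻¹).1 *ᵥ ((M.U⁻¹).1 *ᵥ v))))) := by
    intro v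
    simp only [d, h, _root_.mul_inv_rev, tmat_inv, hneg, mulVec_mul]
  have d0 : d.1 *ᵥ M.a 0 = (w : F) • M.a 0 := by
    rw [hdec, inv_act, zero_sub, hm1, Ti3, mulVec_smul, tmat_fix _ t30, mulVec_smul, M.act, h4,
      mulVec_smul, tmat_fix _ (sympForm_self _), mulVec_smul, T0, smul_smul, hr]
  have d1 : d.1 *ᵥ M.a 1 = M.a 1 := by
    rw [hdec, inv_act, sub_self, Ti0, mulVec_smul, tmat_fix _ (sympForm_self _), mulVec_smul, M.act,
      zero_add, mulVec_smul, tmat_fix _ t10, mulVec_smul, T1, smul_smul, inv_mul_cancel₀ hr0,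
      one_smul]
  have d2 : d.1 *ᵥ M.a 2 = (w : F)⁻¹ • M.a 2 + M.a 0 := by
    rw [hdec, inv_act, show (2 : ℤ) - 1 = 1 from rfl, Ti1, mulVec_smul, tmat_fix _ t10, mulVec_smul,
      M.act, show (1 : ℤ) + 1 = 2 from rfl, mulVec_smul, tmat_mulVec, t20, mul_one, one_smul,
      mulVec_smul, mulVec_add, T2, T0, smul_add, smul_smul, smul_smul, inv_mul_cancel₀ hr0,
      one_smul, ← mul_inv, hr]
  have d3 : d.1 *ᵥ M.a 3 = M.a 3 + (w : F) • M.a 1 := by
    rw [hdec, inv_act, show (3 : ℤ) - 1 = 2 from rfl, Ti2]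
    simp only [mulVec_smul, mulVec_add, tmat_mulVec, t20, t30, t10, M.act,
      show (2 : ℤ) + 1 = 3 from rfl, mul_one, one_smul, mul_zero, zero_smul, add_zero, zero_add,
      T1, T3, smul_add, smul_smul, mul_inv_cancel₀ hr0, hr]
  -- the power killing the torus part is a transvection
  have hq1 : ((Fintype.card F - 1 : ℕ) : F) = 1 := by
    rw [Nat.cast_sub Fintype.card_pos, Nat.cast_card_eq_zero, zero_sub, Nat.cast_one, hneg]
  have hwN : (w : F) ^ (Fintype.card F - 1) = 1 := FiniteField.pow_card_sub_one_eq_one _ w.ne_zero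
  have hw2 : (w : F) * w ≠ 1 := by
    intro h1
    have hwu : w = 1 := by
      refine Units.ext ?_
      rcases mul_self_eq_one_iff.1 h1 with h1 | h1
      · exact h1
      · rw [h1, hneg]; rfl
    have hsub : Fintype.card Fˣ ≤ 1 := Fintype.card_le_one_iff_subsingleton.2
      ⟨fun x y => by
        obtain ⟨i, rfl⟩ := Subgroup.mem_zpowers_iff.1 (hw x)
        obtain ⟨j, rfl⟩ := Subgroup.mem_zpowers_iff.1 (hw y)
        rw [hwu, _root_.one_zpow, _root_.one_zpow]⟩
    rw [Fintype.card_units] at hsub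
    omega
  let ρ := (w : F) / (1 + (w : F) * w)
  have hρ : (1 + (w : F) * w) ≠ 0 := fun h0 => hw2 (by linear_combination h0 - h2)
  have dv : d.1 *ᵥ (M.a 2 + ρ • M.a 0) = (w : F)⁻¹ • (M.a 2 + ρ • M.a 0) := by
    rw [mulVec_add, mulVec_smul, d2, d0, smul_add, smul_smul, smul_smul, add_assoc]
    congr 1
    rw [← one_smul F (M.a 0), smul_smul, ← add_smul, smul_smul, mul_one, mul_one]
    congr 1
    have := w.ne_zero
    have hρ' : 1 + (w : F) ^ 2 ≠ 0 := by rwa [sq]
    simp only [ρ]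
    field_simp
    linear_combination ((w : F) * w) * h2
  have hpow : tmat (M.a 1) (w : F) = d ^ (Fintype.card F - 1) := by
    have hp0 : ∀ k : ℕ, (d ^ k).1 *ᵥ M.a 0 = (w : F) ^ k • M.a 0 := by
      intro k
      induction k with
      | zero => simp
      | succ k ih => rw [pow_succ, mulVec_mul, d0, mulVec_smul, ih, smul_smul, pow_succ']
    have hp1 : ∀ k : ℕ, (d ^ k).1 *ᵥ M.a 1 = M.a 1 := by
      intro k
      induction k with
      | zero => simp
      | succ k ih => rw [pow_succ, mulVec_mul, d1, ih]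
    have hpv : ∀ k : ℕ, (d ^ k).1 *ᵥ (M.a 2 + ρ • M.a 0) =
        ((w : F)⁻¹) ^ k • (M.a 2 + ρ • M.a 0) := by
      intro k
      induction k with
      | zero => simp
      | succ k ih => rw [pow_succ, mulVec_mul, dv, mulVec_smul, ih, smul_smul, pow_succ']
    have hp3 : ∀ k : ℕ, (d ^ k).1 *ᵥ M.a 3 = M.a 3 + ((k : F) * w) • M.a 1 := by
      intro k
      induction k with
      | zero => simp
      | succ k ih =>
        rw [pow_succ, mulVec_mul, d3, mulVec_add, mulVec_smul, ih, hp1]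
        push_cast
        module
    refine sp_ext_span (fun k : Fin 4 => M.a (k.val : ℤ)) M.spans fun k => ?_
    fin_cases k
    · show _ *ᵥ M.a 0 = _ *ᵥ M.a 0
      rw [hp0, hwN, one_smul, tmat_fix _ (M.orth (by omega) (by omega))]
    · show _ *ᵥ M.a 1 = _ *ᵥ M.a 1
      rw [hp1, tmat_fix _ (sympForm_self _)]
    · show _ *ᵥ M.a 2 = _ *ᵥ M.a 2
      have h' := hpv (Fintype.card F - 1)
      rw [inv_pow, hwN, inv_one, one_smul, mulVec_add, mulVec_smul, hp0, hwN, one_smul,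
        add_left_inj] at h'
      rw [h', tmat_fix _ (M.orth (by omega) (by omega))]
    · show _ *ᵥ M.a 3 = _ *ᵥ M.a 3
      rw [hp3, hq1, one_mul, tmat_mulVec]
      have : sympForm 2 F (M.a 3) (M.a 1) = 1 := by rw [M.form]; exact hφm2.trans (hneg 1)
      rw [this, mul_one]
  have h1w : tmat (M.a 1) (w : F) ∈ G := by rw [hpow]; exact pow_mem hd _
  let A : AddSubgroup F :=
    { carrier := {c | tmat (M.a 0) ((w : F) * c) ∈ G}
      zero_mem' := by rw [Set.mem_setOf_eq, mul_zero, tmat_zero]; exact G.one_mem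
      add_mem' := fun {c e} (hc : tmat (M.a 0) ((w : F) * c) ∈ G)
          (he : tmat (M.a 0) ((w : F) * e) ∈ G) => by
        rw [Set.mem_setOf_eq, mul_add, ← tmat_mul]; exact mul_mem hc he
      neg_mem' := fun {c} (hc : tmat (M.a 0) ((w : F) * c) ∈ G) => by
        rw [Set.mem_setOf_eq, mul_neg, hneg]; exact hc }
  have hA : ∀ c, c ∈ A := by
    refine eq_top_of_sq_stable hw ?_ fun c (hc : tmat (M.a 0) ((w : F) * c) ∈ G) => ?_
    · show tmat (M.a 0) ((w : F) * 1) ∈ G
      rw [mul_one]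
      exact M.tmat_shift_mem hU h1w 0
    · have := mul_mem (mul_mem hd hc) (inv_mem hd)
      rw [conj_tmat, d0, tmat_smul] at this
      show tmat (M.a 0) _ ∈ G
      rwa [show (w : F) * (w * w * c) = (w : F) * c * w * w by ring]
  have ht : ∀ c, tmat (M.a 0) c ∈ G := fun c => by
    have : tmat (M.a 0) ((w : F) * ((w : F)⁻¹ * c)) ∈ G := hA _
    rwa [← mul_assoc, mul_inv_cancel₀ w.ne_zero, one_mul] at this
  refine M.eq_top_of_full le_rfl hU ht fun c => ?_
  have h01 : sympForm 2 F (M.a 0) (M.a 1) = 0 := M.orth (by omega) (by omega)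
  have h12 : sympForm 2 F (M.a 1) (M.a 2) = 0 := M.orth (by omega) (by omega)
  let y := sElt (M.a 1) (M.a 2) (1 : F)
  have hd' : h' * y ∈ G := by
    have e : h' * y = h' * M.U * h'⁻¹ * M.U⁻¹ := by
      rw [show h' * M.U * h'⁻¹ * M.U⁻¹ = h' * (M.U * h'⁻¹ * M.U⁻¹) by group, sElt_inv h01, hneg,
        conj_sElt, M.act, M.act]
      rfl
    rw [e]
    exact mul_mem (Subgroup.subset_closure (by simp)) (inv_mem hU)
  have hconj := mul_mem (mul_mem (ht c) hd') (inv_mem (ht c))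
  rw [show tmat (M.a 0) c * (h' * y) * (tmat (M.a 0) c)⁻¹ =
      (tmat (M.a 0) c * h' * (tmat (M.a 0) c)⁻¹) * (tmat (M.a 0) c * y * (tmat (M.a 0) c)⁻¹) by group,
    conj_sElt, conj_sElt, tmat_fix _ (sympForm_self _), tmat_fix _ t10, tmat_mulVec, t20,
    mul_one] at hconj
  have hq := mul_mem (inv_mem hd') hconj
  rw [_root_.mul_inv_rev, mul_assoc, inv_mul_cancel_left] at hq
  have hadd := sElt_add_right (x := M.a 1) (y := M.a 2) (y' := c • M.a 0) h12
    (by rw [form_smul_right, t10, mul_zero]) (1 : F)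
  rw [sElt_smul_right t10, mul_one, ← sElt_comm h01] at hadd
  rw [show sElt (M.a 1) (M.a 2 + c • M.a 0) (1 : F) =
    y * sElt (M.a 0) (M.a 1) c * (tmat (M.a 1) (1 * 1 * sympForm 2 F (c • M.a 0) (M.a 2)))⁻¹ by
      rw [hadd, mul_inv_cancel_right], mul_assoc y, inv_mul_cancel_left,
    G.mul_mem_cancel_right (inv_mem (M.tmat_shift_mem hU (ht _) 1))] at hq
  exact hq

end Model

end CfsgLib.RegUnip.SpGen
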