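import Cfsg.Agent.Lib.RegUnip.SpCases
import Mathlib.FieldTheory.Finite.Basic

/-!
`Sp_{2n}(q)` is generated by the regular unipotent `U` and one further element `t * h`,
`t` a transvection and `h` of order prime to `p` commuting with it.
-/

set_option autoImplicit false

namespace CfsgLib.RegUnip.SpTwoGen

open Cfsg Matrix CfsgLib.Sp CfsgLib.RegUnip.SpGen

variable {F : Type*} [Field F] {n : ℕ}

/-- the monomial element of the plane of `e`, `f` -/
def wElt (e f : Fin n ⊕ Fin n → F) (a : F) : symplecticGroup (Fin n) F :=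
  tmat e a * tmat f a⁻¹ * tmat e a

/-- the diagonal element of the plane of `e`, `f` -/
def dElt (e f : Fin n ⊕ Fin n → F) (a : F) : symplecticGroup (Fin n) F :=
  wElt e f a * wElt e f (-1)

variable {e f : Fin n ⊕ Fin n → F}

theorem wElt_mulVec (hef : sympForm n F e f = 1) {a : F} (ha : a ≠ 0) (x : Fin n ⊕ Fin n → F) :
    (wElt e f a).1 *ᵥ x = x + (a * sympForm n F x e - sympForm n F x f) • e
      + (a⁻¹ * sympForm n F x f + sympForm n F x e) • f := by
  have hfe : sympForm n F f e = -1 := by rw [sympForm_flip, hef]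
  simp only [wElt, mulVec_mul, tmat_mulVec, form_add_left, form_smul_left, sympForm_self, hef, hfe,
    smul_eq_mul]
  match_scalars <;> field_simp <;> ring

theorem dElt_mulVec (hef : sympForm n F e f = 1) {a : F} (ha : a ≠ 0) (x : Fin n ⊕ Fin n → F) :
    (dElt e f a).1 *ᵥ x = x + ((a - 1) * sympForm n F x f) • e
      + ((a⁻¹ - 1) * sympForm n F e x) • f := by
  have hfe : sympForm n F f e = -1 := by rw [sympForm_flip, hef]
  rw [dElt, mulVec_mul, wElt_mulVec hef (neg_ne_zero.2 one_ne_zero), wElt_mulVec hef ha]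
  simp only [form_add_left, form_smul_left, sympForm_self, hef, hfe]
  rw [sympForm_flip e x]
  match_scalars <;> field_simp <;> ring

theorem dElt_fix (hef : sympForm n F e f = 1) {a : F} (ha : a ≠ 0) {x : Fin n ⊕ Fin n → F}
    (h1 : sympForm n F x e = 0) (h2 : sympForm n F x f = 0) : (dElt e f a).1 *ᵥ x = x := by
  rw [dElt_mulVec hef ha, h2, sympForm_flip, h1]
  simp

theorem dElt_mul (hef : sympForm n F e f = 1) {a b : F} (ha : a ≠ 0) (hb : b ≠ 0) :
    dElt e f a * dElt e f b = dElt e f (a * b) := by
  have hfe : sympForm n F f e = -1 := by rw [sympForm_flip, hef]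
  refine sp_ext fun x => ?_
  rw [mulVec_mul, dElt_mulVec hef hb, dElt_mulVec hef ha, dElt_mulVec hef (mul_ne_zero ha hb)]
  simp only [form_add_left, form_smul_left, form_add_right, form_smul_right, sympForm_self, hef, hfe]
  match_scalars <;> field_simp <;> ring

theorem dElt_one (hef : sympForm n F e f = 1) : dElt e f (1 : F) = 1 :=
  sp_ext fun x => by rw [dElt_mulVec hef one_ne_zero, Submonoid.coe_one, one_mulVec]; simp

theorem dElt_pow (hef : sympForm n F e f = 1) {a : F} (ha : a ≠ 0) :
    ∀ k : ℕ, dElt e f a ^ k = dElt e f (a ^ k) := by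
  intro k
  induction k with
  | zero => rw [pow_zero, pow_zero, dElt_one hef]
  | succ k ih => rw [pow_succ, ih, dElt_mul hef (pow_ne_zero k ha) ha, pow_succ]

theorem tmat_pow (v : Fin n ⊕ Fin n → F) (c : F) : ∀ k : ℕ, tmat v c ^ k = tmat v (k * c) := by
  intro k
  induction k with
  | zero => simp
  | succ k ih => rw [pow_succ, ih, tmat_mul]; push_cast; ring_nf

variable [Fintype F] (M : Model F n)

/-- `q > 2`. -/
theorem two_large_field (hn : 2 ≤ n) (hq : 2 < Fintype.card F) :
    ∃ x : symplecticGroup (Fin n) F, Subgroup.closure {M.U, x} = ⊤ := by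
  classical
  obtain ⟨w, hw⟩ := IsCyclic.exists_generator (α := Fˣ)
  have hw1 : (w : F) - 1 ≠ 0 := by
    intro h
    have h1 : w = 1 := Units.ext (by simpa [sub_eq_zero] using h)
    have hle : Fintype.card Fˣ ≤ 1 := Fintype.card_le_one_iff.2 fun a b => by
      obtain ⟨i, rfl⟩ := hw a
      obtain ⟨j, rfl⟩ := hw b
      simp [h1]
    rw [Fintype.card_units] at hle
    omega
  set φ := M.φ ((n : ℤ) + 1) with hφ
  have hform : ∀ i j, sympForm n F (M.a i) (M.a j) = M.φ (j - i) := M.form
  let e := M.a 1
  let f := M.a ((n : ℤ) + 1) - φ • M.a (n : ℤ) + M.a 0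
  have hf : f = M.a ((n : ℤ) + 1) + (-φ) • M.a (n : ℤ) + M.a 0 := by
    simp only [f]; module
  have h0n : sympForm n F (M.a 0) (M.a (n : ℤ)) = 1 := by simpa using M.form_top 0
  have h0n1 : sympForm n F (M.a 0) (M.a ((n : ℤ) + 1)) = φ := by rw [hform, hφ, sub_zero]
  have h1n1 : sympForm n F (M.a 1) (M.a ((n : ℤ) + 1)) = 1 := by
    rw [show (n : ℤ) + 1 = 1 + n by ring]; exact M.form_top 1
  have h1n : sympForm n F (M.a 1) (M.a (n : ℤ)) = 0 := M.orth (by omega) (by omega)
  have h01 : sympForm n F (M.a 0) (M.a 1) = 0 := M.orth (by omega) (by omega)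
  have hnn1 : sympForm n F (M.a (n : ℤ)) (M.a ((n : ℤ) + 1)) = 0 := M.orth (by omega) (by omega)
  have hef : sympForm n F e f = 1 := by
    rw [hf, form_add_right, form_add_right, form_smul_right, h1n1, h1n, sympForm_flip, h01]
    simp
  have h0e : sympForm n F (M.a 0) e = 0 := h01
  have h0f : sympForm n F (M.a 0) f = 0 := by
    rw [hf, form_add_right, form_add_right, form_smul_right, h0n1, h0n, sympForm_self]
    ring
  let h := dElt e f (w : F)
  let t := tmat (M.a 0) (1 : F)
  refine ⟨t * h, ?_⟩
  set K := Subgroup.closure ({M.U, t * h} : Set (symplecticGroup (Fin n) F))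
  have hU : M.U ∈ K := Subgroup.subset_closure (by simp)
  have hth : t * h ∈ K := Subgroup.subset_closure (by simp)
  have hcomm : Commute t h := by
    have := conj_tmat h (M.a 0) (1 : F)
    rw [dElt_fix hef w.ne_zero h0e h0f, mul_inv_eq_iff_eq_mul] at this
    exact this.symm
  have hpow : (t * h) ^ (Fintype.card F - 1) = tmat (M.a 0) (-1 : F) := by
    rw [hcomm.mul_pow, dElt_pow hef w.ne_zero, FiniteField.pow_card_sub_one_eq_one _ w.ne_zero,
      dElt_one hef, mul_one, tmat_pow, Nat.cast_sub (by omega), FiniteField.cast_card_eq_zero]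
    simp
  have ht : t ∈ K := by
    have := inv_mem (pow_mem hth (Fintype.card F - 1))
    rwa [hpow, tmat_inv, neg_neg] at this
  have hh : h ∈ K := (K.mul_mem_cancel_left ht).1 hth
  have ha1 : h.1 *ᵥ M.a 1 = (w : F) • M.a 1 := by
    show (dElt e f (w : F)).1 *ᵥ e = (w : F) • e
    rw [dElt_mulVec hef w.ne_zero, hef, sympForm_self]
    module
  let A : AddSubgroup F :=
    { carrier := {c | tmat (M.a 0) c ∈ K}
      zero_mem' := by rw [Set.mem_setOf_eq, tmat_zero]; exact K.one_mem
      add_mem' := fun {c d} (hc : tmat (M.a 0) c ∈ K) (hd : tmat (M.a 0) d ∈ K) => by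
        rw [Set.mem_setOf_eq, ← tmat_mul]; exact mul_mem hc hd
      neg_mem' := fun {c} (hc : tmat (M.a 0) c ∈ K) => by
        rw [Set.mem_setOf_eq, ← tmat_inv]; exact inv_mem hc }
  have hA : ∀ c, c ∈ A := eq_top_of_sq_stable hw ht fun c (hc : tmat (M.a 0) c ∈ K) => by
    have := mul_mem (mul_mem hh (M.tmat_shift_mem hU hc 1)) (inv_mem hh)
    rw [conj_tmat, ha1, tmat_smul] at this
    have h2 := M.tmat_shift_mem hU this 0
    show tmat (M.a 0) _ ∈ K
    rwa [show (w : F) * w * c = c * w * w by ring]
  have hW : ∀ j, M.a j ∈ Wset K := fun j c => M.tmat_shift_mem hU (hA c) j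
  let z := h.1 *ᵥ M.a (n : ℤ)
  have hzW : z ∈ Wset K := fun c => by
    have := mul_mem (mul_mem hh (hW n c)) (inv_mem hh)
    rwa [conj_tmat] at this
  have hnf : sympForm n F (M.a (n : ℤ)) f = -1 := by
    rw [hf, form_add_right, form_add_right, form_smul_right, hnn1, sympForm_self,
      sympForm_flip (M.a 0) (M.a (n : ℤ)), h0n]
    ring
  have hz : z = M.a (n : ℤ) + (-((w : F) - 1)) • M.a 1 := by
    show (dElt e f (w : F)).1 *ᵥ M.a (n : ℤ) = _
    rw [dElt_mulVec hef w.ne_zero, hnf, show sympForm n F e (M.a (n : ℤ)) = 0 from h1n]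
    module
  have h0z : sympForm n F (M.a 0) z = 1 := by
    rw [hz, form_add_right, form_smul_right, h0n, h01]; ring
  have h1z : sympForm n F (M.a 1) z = 0 := by
    rw [hz, form_add_right, form_smul_right, h1n, sympForm_self]; ring
  have hbz : sympForm n F z (M.a ((n : ℤ) + 1)) ≠ 0 := by
    rw [hz, form_add_left, form_smul_left, hnn1, h1n1]
    simpa using neg_ne_zero.2 hw1
  have havoid : ∀ y : F, ∃ r : F, r ≠ 0 ∧ r ≠ y := by
    intro y
    by_contra hc
    push_neg at hc
    have : (Finset.univ : Finset F) ⊆ {0, y} := fun r _ => by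
      by_cases hr : r = 0
      · simp [hr]
      · simp [hc r hr]
    have := (Finset.card_le_card this).trans Finset.card_le_two
    rw [Finset.card_univ] at this
    omega
  obtain ⟨r, hr0, hr⟩ := havoid (-φ⁻¹)
  have hr' : 1 + r * φ ≠ 0 := by
    intro hc
    apply hr
    rcases eq_or_ne φ 0 with h0 | h0
    · simp [h0] at hc
    · field_simp
      linear_combination hc
  let z' := z + r • M.a ((n : ℤ) + 1)
  have hz'W : z' ∈ Wset K := Wset_add_smul hzW (hW _) hbz r
  have h0z' : sympForm n F (M.a 0) z' = 1 + r * φ := by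
    simp only [z', form_add_right, form_smul_right, h0z, h0n1]
  have h1z' : sympForm n F (M.a 1) z' = r := by
    simp only [z', form_add_right, form_smul_right, h1z, h1n1]; ring
  have hv : M.a 1 + z' ∈ Wset K := by
    have := Wset_add_smul (hW 1) hz'W (by rw [h1z']; exact hr0) 1
    rwa [one_smul] at this
  obtain ⟨s, hs0, hs⟩ := havoid (-(r / (1 + r * φ)))
  have hv0 : sympForm n F (M.a 1 + z') (M.a 0) ≠ 0 := by
    rw [form_add_left, sympForm_flip (M.a 0) (M.a 1), h01, sympForm_flip (M.a 0) z', h0z']
    intro hc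
    apply hr'
    linear_combination -hc
  have hv' := Wset_add_smul hv (hW 0) hv0 s
  have hne : sympForm n F (M.a 1 + z' + s • M.a 0) z' ≠ 0 := by
    rw [form_add_left, form_add_left, form_smul_left, h1z', sympForm_self, h0z', add_zero]
    intro hc
    apply hs
    field_simp
    linear_combination hc
  have hmix := Wset_add_smul hv' hz'W hne (-1)
  have hmix' : M.a 1 + s • M.a 0 ∈ Wset K := by
    rwa [show M.a 1 + z' + s • M.a 0 + (-1 : F) • z' = M.a 1 + s • M.a 0 by module] at hmix
  refine M.eq_top_of_full hn hU hA fun c => ?_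
  have h10 : sympForm n F (M.a 1) (M.a 0) = 0 := by rw [sympForm_flip, h01, neg_zero]
  have := hmix' (c / s)
  rw [tmat_add_smul h10, mul_div_cancel₀ _ hs0, K.mul_mem_cancel_right (hW 1 _),
    K.mul_mem_cancel_right (hA _), sElt_comm h10] at this
  exact this

/-- `q = 2`, `n ≥ 3`. -/
theorem two_small_field (hn : 3 ≤ n) (hq : Fintype.card F = 2) :
    ∃ x : symplecticGroup (Fin n) F, Subgroup.closure {M.U, x} = ⊤ := by
  classical
  obtain ⟨w, hw⟩ := IsCyclic.exists_generator (α := Fˣ)
  have hw1 : (w : F) = 1 := by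
    have hc : Fintype.card Fˣ = 1 := by rw [Fintype.card_units, hq]
    have : w = 1 := Fintype.card_le_one_iff.1 hc.le w 1
    rw [this, Units.val_one]
  have h2 : (2 : F) = 0 := by simpa [hq] using FiniteField.cast_card_eq_zero F
  have hneg : ∀ x : F, -x = x := fun x => by linear_combination (-x) * h2
  have hall : ∀ x : F, x = 0 ∨ x = 1 := fun x => by
    by_cases hx : x = 0
    · exact .inl hx
    · refine .inr ?_
      have := Fintype.card_le_one_iff.1
        (show Fintype.card Fˣ ≤ 1 by rw [Fintype.card_units, hq]) (Units.mk0 x hx) 1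
      simpa using congrArg (fun u : Fˣ => (u : F)) this
  let u := M.a ((n : ℤ) + 1)
  let v := M.a 1 + M.a 2
  have huv : sympForm n F u v = 1 := by
    simp only [u, v, form_add_right]
    rw [sympForm_flip (M.a 1) (M.a ((n : ℤ) + 1)), show (n : ℤ) + 1 = 1 + n by ring,
      M.form_top, M.orth (by omega) (by omega), hneg, add_zero]
  have h0u : sympForm n F (M.a 0) u = 0 := by
    rcases hall (sympForm n F (M.a 0) u) with h | h
    · exact h
    · exfalso
      have hrec := M.recur (-(n : ℤ) + 1)
      have hr := congrArg (fun y => sympForm n F (M.a 0) y) hrec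
      rw [show sympForm n F (M.a 0) 0 = 0 by rw [sympForm_flip, form_zero_left, neg_zero]] at hr
      have key : ∀ (s : Finset ℕ) (g : ℕ → Fin n ⊕ Fin n → F),
          sympForm n F (M.a 0) (∑ i ∈ s, g i) = ∑ i ∈ s, sympForm n F (M.a 0) (g i) := by
        intro s g
        induction s using Finset.induction_on with
        | empty => rw [Finset.sum_empty, Finset.sum_empty, sympForm_flip, form_zero_left, neg_zero]
        | insert a s ha ih => rw [Finset.sum_insert ha, Finset.sum_insert ha, form_add_right, ih]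
      rw [key, Finset.sum_range_succ, Finset.sum_eq_single (2 * n - 1) (fun i hi hne => by
        rw [Finset.mem_range] at hi
        rw [form_smul_right, M.orth (by omega) (by omega), mul_zero])
        (fun hc => absurd (Finset.mem_range.2 (by omega)) hc)] at hr
      have e1 : -(n : ℤ) + 1 + ((2 * n : ℕ) : ℤ) = (n : ℤ) + 1 := by omega
      have e2 : ((2 * n).choose (2 * n - 1) : F) = 0 := by
        rw [Nat.choose_symm_of_eq_add (show 2 * n = (2 * n - 1) + 1 by omega), Nat.choose_one_right,
          Nat.cast_mul, Nat.cast_ofNat, h2, zero_mul]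
      rw [form_smul_right, form_smul_right, e2, e1,
        show sympForm n F (M.a 0) (M.a ((n : ℤ) + 1)) = 1 from h] at hr
      simp [Nat.choose_self] at hr
  have h0v : sympForm n F (M.a 0) v = 0 := by
    simp only [v, form_add_right]
    rw [M.orth (by omega) (by omega), M.orth (by omega) (by omega), add_zero]
  let h := tmat u (1 : F) * tmat v 1
  let t := tmat (M.a 0) (1 : F)
  refine ⟨t * h, ?_⟩
  set K := Subgroup.closure ({M.U, t * h} : Set (symplecticGroup (Fin n) F))
  have hU : M.U ∈ K := Subgroup.subset_closure (by simp)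
  have hth : t * h ∈ K := Subgroup.subset_closure (by simp)
  have hcomm : Commute t h := (tmat_commute _ _ (by rw [sympForm_flip, h0u, neg_zero])).mul_right
    (tmat_commute _ _ (by rw [sympForm_flip, h0v, neg_zero]))
  have hvu : sympForm n F v u = 1 := by rw [sympForm_flip, huv, hneg]
  have hform3 : ∀ x, h.1 *ᵥ x = x + (sympForm n F x u + sympForm n F x v) • u
      + sympForm n F x v • v := by
    intro x
    simp only [h, mulVec_mul, tmat_mulVec, form_add_left, form_smul_left, hvu]
    module
  have hhu : h.1 *ᵥ u = v := by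
    rw [hform3, sympForm_self, huv, zero_add, one_smul, one_smul,
      show u + u = (0 : Fin n ⊕ Fin n → F) by rw [← two_smul F, h2, zero_smul], zero_add]
  have hhv : h.1 *ᵥ v = u + v := by
    rw [hform3, sympForm_self, hvu]
    module
  have hh3 : h ^ 3 = 1 := sp_ext fun x => by
    rw [pow_succ, pow_two, mulVec_mul, mulVec_mul, Submonoid.coe_one, one_mulVec, hform3 x]
    simp only [mulVec_add, mulVec_smul, hhu, hhv, hform3 x]
    match_scalars <;> first
      | ring1
      | linear_combination (sympForm n F x u + 2 * sympForm n F x v) * h2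
      | linear_combination (sympForm n F x u + 3 * sympForm n F x v) * h2
  have ht3 : t ^ 3 = t := by
    show tmat (M.a 0) (1 : F) ^ 3 = tmat (M.a 0) 1
    rw [tmat_pow]
    congr 1
    linear_combination h2
  have ht : t ∈ K := by
    have := pow_mem hth 3
    rwa [hcomm.mul_pow, hh3, mul_one, ht3] at this
  have hh : h ∈ K := (K.mul_mem_cancel_left ht).1 hth
  have hu : tmat u (1 : F) ∈ K := M.tmat_shift_mem hU ht _
  have hv1 : tmat v (1 : F) ∈ K := by
    have := mul_mem (mul_mem hh hu) (inv_mem hh)
    rwa [conj_tmat, hhu] at this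
  have hs : sElt (M.a 1) (M.a 2) (1 : F) ∈ K := by
    have h12 : sympForm n F (M.a 1) (M.a 2) = 0 := M.orth (by omega) (by omega)
    rw [show v = M.a 1 + (1 : F) • M.a 2 by rw [one_smul], tmat_add_smul h12, one_mul, one_mul,
      K.mul_mem_cancel_right (M.tmat_shift_mem hU ht 1),
      K.mul_mem_cancel_right (M.tmat_shift_mem hU ht 2)] at hv1
    exact hv1
  rw [eq_top_iff, ← M.closure_eq_top_large hn hw, Subgroup.closure_le, hw1]
  rintro y (rfl | rfl | rfl)
  exacts [hU, ht, by simpa using M.sElt_shift_mem hU (i := 1) hs 0]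

end CfsgLib.RegUnip.SpTwoGen
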