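import Cfsg.Agent.Lib.RegUnip.SLn
import Cfsg.Agent.Lib.RegUnip.Jordan

/-!
Two conjugate regular unipotents generate `SL_n(q)`, `n ≥ 4`: `u` and `t u t⁻¹` for a transvection
`t = 1 + τ a fᵀ`, where the pairings `φ m = f (u^m a)` are prescribed on a window of length `n`.
-/

set_option autoImplicit false

namespace CfsgLib.RegUnip.TwoGen

open Matrix

variable {F : Type*} [Field F] {n : ℕ}

/-- The power `u^m` of the standard regular unipotent, as a matrix. -/
noncomputable def up (n : ℕ) (F : Type*) [Field F] (m : ℤ) : Matrix (Fin n) (Fin n) F :=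
  ((regUnip n F ^ m : SpecialLinearGroup (Fin n) F) : Matrix (Fin n) (Fin n) F)

theorem up_add (i j : ℤ) : up n F (i + j) = up n F i * up n F j := by
  rw [up, up, up, ← val_mul, ← _root_.zpow_add]

theorem up_zero : up n F 0 = 1 := by rw [up, zpow_zero, val_one]

theorem up_natCast (k : ℕ) : up n F k = (1 + shiftMat n F) ^ k := by
  induction k with
  | zero => simp [up_zero]
  | succ k ih =>
    rw [Nat.cast_succ, up_add, ih, pow_succ, up, zpow_one, regUnip_val]

/-- The orbit `u^j a` of the last coordinate vector. -/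
noncomputable def ai (n : ℕ) (F : Type*) [Field F] [NeZero n] (j : ℤ) : Fin n → F :=
  up n F j *ᵥ Pi.single (⟨n - 1, Nat.pred_lt (NeZero.ne n)⟩ : Fin n) 1

/-- The functional `f u^{-j}`. -/
noncomputable def fi (f : Fin n → F) (j : ℤ) : Fin n → F := f ᵥ* up n F (-j)

/-- `J^k` as a combination of powers of `u = 1 + J`. -/
theorem shiftMat_pow_sum (k : ℕ) :
    shiftMat n F ^ k = ∑ i ∈ Finset.range (k + 1),
      ((-1 : F) ^ (i + k) * (k.choose i : F)) • up n F (i : ℤ) := by
  have h := congrArg (Polynomial.aeval (1 + shiftMat n F))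
    (sub_pow (Polynomial.X : Polynomial F) 1 k)
  rw [map_pow, map_sub, Polynomial.aeval_X, map_one, add_sub_cancel_left, map_sum] at h
  rw [h]
  refine Finset.sum_congr rfl fun i _ => ?_
  rw [up_natCast, one_pow, mul_one,
    show ((-1 : Polynomial F) ^ (i + k) * Polynomial.X ^ i * (k.choose i : Polynomial F)) =
      Polynomial.C ((-1 : F) ^ (i + k) * (k.choose i : F)) * Polynomial.X ^ i by
        simp only [map_mul, map_pow, map_neg, map_one, map_natCast]; ring,
    map_mul, Polynomial.aeval_C, map_pow, Polynomial.aeval_X, ← Algebra.smul_def]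

variable [NeZero n]

/-- The pairing `f (u^m a)`. -/
noncomputable def phi (f : Fin n → F) (m : ℤ) : F := f ⬝ᵥ ai n F m

theorem pair (f : Fin n → F) (i j : ℤ) : fi f i ⬝ᵥ ai n F j = phi f (j - i) := by
  rw [fi, phi, ai, ai, ← dotProduct_mulVec, mulVec_mulVec, ← up_add]
  rw [show -i + j = j - i by ring]

theorem up_mulVec_ai (s j : ℤ) : up n F s *ᵥ ai n F j = ai n F (s + j) := by
  rw [ai, ai, mulVec_mulVec, ← up_add]

omit [NeZero n] in
theorem fi_vecMul_up (f : Fin n → F) (s j : ℤ) : fi f j ᵥ* up n F (-s) = fi f (j + s) := by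
  rw [fi, fi, vecMul_vecMul, ← up_add, neg_add]

omit [NeZero n] in
/-- A submodule invariant under `u` containing the last coordinate vector is everything. -/
theorem eq_top_of_invariant (hn : 0 < n) (W : Submodule F (Fin n → F))
    (hW : Pi.single (⟨n - 1, by omega⟩ : Fin n) (1 : F) ∈ W)
    (hu : ∀ v ∈ W, (1 + shiftMat n F) *ᵥ v ∈ W) : W = ⊤ := by
  have hJ : ∀ v ∈ W, shiftMat n F *ᵥ v ∈ W := by
    intro v hv
    simpa [add_mulVec] using W.sub_mem (hu v hv) hv
  have hstep : ∀ k : ℕ, ∀ i : Fin n, i.val + k + 1 = n → Pi.single i (1 : F) ∈ W := by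
    intro k
    induction k with
    | zero =>
      intro i hi
      rwa [show i = (⟨n - 1, by omega⟩ : Fin n) from Fin.ext (show i.val = n - 1 by omega)]
    | succ k ih =>
      intro i hi
      have h := hJ _ (ih ⟨i.val + 1, by omega⟩ (show i.val + 1 + k + 1 = n by omega))
      convert h using 1
      ext l
      rw [shiftMat_mulVec]
      simp only [Pi.single_apply, Fin.ext_iff]
      split_ifs <;> first
        | rfl
        | omega
  refine Submodule.eq_top_iff'.2 fun x => ?_
  rw [pi_eq_sum_univ' x]
  exact W.sum_mem fun i _ => W.smul_mem _ (hstep (n - 1 - i.val) i (by omega))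

/-- The orbit vectors over any window of `n` consecutive exponents form a basis. -/
theorem exists_functional (m0 : ℤ) (v : Fin n → F) :
    ∃ f : Fin n → F, ∀ k : Fin n, phi f (m0 + k.val) = v k := by
  classical
  let M : Matrix (Fin n) (Fin n) F := fun i j => ai n F (m0 + j.val) i
  suffices h : IsUnit M by
    obtain ⟨f, hf⟩ := vecMul_surjective_iff_isUnit.2 h v
    exact ⟨f, fun k => by rw [← hf]; rfl⟩
  rw [← mulVec_surjective_iff_isUnit]
  have hn : 0 < n := Nat.pos_of_ne_zero (NeZero.ne n)
  intro y
  let W : Submodule F (Fin n → F) :=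
    Submodule.span F (Set.range fun k : Fin n => ai n F (k.val))
  have hlow : ∀ (k : ℕ), k < n → shiftMat n F ^ k *ᵥ ai n F 0 ∈ W := by
    intro k hk
    rw [shiftMat_pow_sum, Matrix.sum_mulVec]
    refine W.sum_mem fun i hi => ?_
    rw [Finset.mem_range] at hi
    have hb : ai n F (i : ℤ) ∈ W := Submodule.subset_span ⟨⟨i, by omega⟩, rfl⟩
    rw [smul_mulVec, up_mulVec_ai, add_zero]
    exact W.smul_mem _ hb
  have htop : W = ⊤ := by
    refine eq_top_of_invariant hn W ?_ ?_
    · have := hlow 0 hn
      rw [pow_zero, one_mulVec, ai, up_zero, one_mulVec] at this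
      exact this
    · have hJW : ∀ v ∈ W, shiftMat n F *ᵥ v ∈ W := by
        intro v hv
        induction hv using Submodule.span_induction with
        | mem x hx =>
          obtain ⟨k, rfl⟩ := hx
          have hJn : shiftMat n F *ᵥ ai n F (k.val : ℤ) =
              ai n F ((k.val + 1 : ℕ) : ℤ) - ai n F (k.val : ℤ) := by
            rw [show ((k.val + 1 : ℕ) : ℤ) = 1 + (k.val : ℤ) by push_cast; ring, ← up_mulVec_ai,
              up, zpow_one, regUnip_val, add_mulVec, one_mulVec]
            abel
          rw [hJn]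
          refine W.sub_mem ?_ (Submodule.subset_span ⟨k, rfl⟩)
          by_cases hk : k.val + 1 < n
          · exact Submodule.subset_span ⟨⟨k.val + 1, hk⟩, rfl⟩
          · -- `u^n a` is in the span because `(u - 1)^n = 0`
            rw [show k.val + 1 = n by omega]
            have h0 : (∑ i ∈ Finset.range (n + 1),
                ((-1 : F) ^ (i + n) * (n.choose i : F)) • ai n F (i : ℤ)) = 0 := by
              have e := congrArg (fun A : Matrix (Fin n) (Fin n) F => A *ᵥ ai n F 0)
                (shiftMat_pow_eq_zero (F := F) n)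
              simp only [shiftMat_pow_sum, Matrix.sum_mulVec, zero_mulVec, smul_mulVec,
                up_mulVec_ai, add_zero] at e
              exact e
            rw [Finset.sum_range_succ, Nat.choose_self, Nat.cast_one, mul_one,
              Even.neg_one_pow ⟨n, rfl⟩, one_smul, add_eq_zero_iff_eq_neg'] at h0
            rw [h0]
            refine W.neg_mem (W.sum_mem fun i hi => W.smul_mem _ ?_)
            exact Submodule.subset_span ⟨⟨i, Finset.mem_range.1 hi⟩, rfl⟩
        | zero => simp
        | add x y _ _ hx hy => rw [mulVec_add]; exact W.add_mem hx hy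
        | smul c x _ hx => rw [mulVec_smul]; exact W.smul_mem _ hx
      intro v hv
      rw [add_mulVec, one_mulVec]
      exact W.add_mem hv (hJW v hv)
  -- shift the window by `u^{m0}`
  have hmem : up n F (-m0) *ᵥ y ∈ W := htop ▸ Submodule.mem_top
  obtain ⟨c, hc⟩ := (Submodule.mem_span_range_iff_exists_fun F).1 hmem
  refine ⟨c, ?_⟩
  have e : y = up n F m0 *ᵥ (up n F (-m0) *ᵥ y) := by
    rw [mulVec_mulVec, ← up_add, add_neg_cancel, up_zero, one_mulVec]
  rw [e, ← hc, mulVec_sum]
  ext i
  rw [mulVec, dotProduct, Finset.sum_apply]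
  refine Finset.sum_congr rfl fun k _ => ?_
  rw [mulVec_smul, up_mulVec_ai]
  simp [M, mul_comm]

/-- The binomial recurrence: the `(n-1)`-st difference of the pairing is constant. -/
theorem diff_const (f : Fin n → F) (j : ℤ) :
    (∑ i ∈ Finset.range n, (-1 : F) ^ (i + (n - 1)) * ((n - 1).choose i : F) * phi f (j + i)) =
      f ⬝ᵥ (shiftMat n F ^ (n - 1) *ᵥ ai n F 0) := by
  have hn : 0 < n := Nat.pos_of_ne_zero (NeZero.ne n)
  set P := shiftMat n F ^ (n - 1) with hP
  have hPu : P * up n F 1 = P := by
    rw [up, zpow_one, regUnip_val, mul_add, mul_one, hP, ← pow_succ,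
      show n - 1 + 1 = n by omega, shiftMat_pow_eq_zero, add_zero]
  have hPi : ∀ j : ℤ, P * up n F j = P := by
    intro j
    induction j using Int.induction_on with
    | zero => rw [up_zero, mul_one]
    | succ i ih => rw [up_add, ← mul_assoc, ih, hPu]
    | pred i ih =>
      rw [show -(i : ℤ) - 1 = (-1) + -(i : ℤ) by ring, up_add, ← mul_assoc]
      have : P * up n F (-1) = P := by
        conv_lhs => rw [← hPu, mul_assoc, ← up_add, add_neg_cancel, up_zero, mul_one]
      rw [this, ih]
  have h1 : P *ᵥ ai n F 0 = P *ᵥ ai n F j := by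
    rw [show ai n F j = up n F j *ᵥ ai n F 0 by rw [up_mulVec_ai, add_zero], mulVec_mulVec, hPi]
  rw [h1, hP, shiftMat_pow_sum, Matrix.sum_mulVec, dotProduct_sum, show n - 1 + 1 = n by omega]
  refine Finset.sum_congr rfl fun i _ => ?_
  rw [smul_mulVec, up_mulVec_ai, dotProduct_smul, phi, smul_eq_mul, add_comm j]

end CfsgLib.RegUnip.TwoGen
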