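import Cfsg.Agent.Lib.RegUnip.TwoGen

/-!
The transvection-closure argument behind `SL_n(q) = ⟨u, t u t⁻¹⟩`, `n ≥ 4`.
-/

set_option autoImplicit false

namespace CfsgLib.RegUnip.TwoGen

open Matrix

variable {F : Type*} [Field F] {n : ℕ} [NeZero n]

/-- Negation of the axis of a transvection in a subgroup. -/
theorem hasTransvec_neg {G : Subgroup (SpecialLinearGroup (Fin n) F)} {a g : Fin n → F}
    (hg : g ⬝ᵥ a = 0) (h : HasTransvec G a g) : HasTransvec G a (-g) := by
  obtain ⟨t, ht, et⟩ := h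
  refine ⟨t⁻¹, G.inv_mem ht, ?_⟩
  have key : ((1 : Matrix (Fin n) (Fin n) F) + vecMulVec a (-g)) * t = 1 := by
    rw [et, add_mul, one_mul, mul_add, mul_one, vecMulVec_mul_vecMulVec, neg_dotProduct, hg,
      neg_zero, zero_smul, vecMulVec_zero, vecMulVec_neg, add_zero]
    abel
  calc ((t⁻¹ : SpecialLinearGroup (Fin n) F) : Matrix (Fin n) (Fin n) F)
      = ((1 + vecMulVec a (-g)) * t) *
          ((t⁻¹ : SpecialLinearGroup (Fin n) F) : Matrix (Fin n) (Fin n) F) := by
        rw [key, one_mul]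
    _ = _ := by rw [mul_assoc, ← val_mul, mul_inv_cancel, val_one, mul_one]

/-- The data: a functional with `φ(0) = φ(-1) = φ(-2) = 0`, `φ(1) = 1`, a scalar `τ`, the
transvection `t = 1 + τ a₀ f₀ᵀ`, and a group containing `u` and `t u t⁻¹`. -/
structure Setup (F : Type*) [Field F] (n : ℕ) [NeZero n] where
  G : Subgroup (SpecialLinearGroup (Fin n) F)
  f : Fin n → F
  τ : F
  t : SpecialLinearGroup (Fin n) F
  ht : (t : Matrix (Fin n) (Fin n) F) = 1 + vecMulVec (ai n F 0) (τ • fi f 0)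
  hu : regUnip n F ∈ G
  hv : t * regUnip n F * t⁻¹ ∈ G
  h0 : phi f 0 = 0
  hm1 : phi f (-1) = 0
  hm2 : phi f (-2) = 0
  h1 : phi f 1 = 1

namespace Setup

variable (S : Setup F n)

/-- `T x j`: the transvection with centre `a₀` and axis `x f_j` lies in the group. -/
def T (x : F) (j : ℤ) : Prop := HasTransvec S.G (ai n F 0) (x • fi S.f j)

/-- The element `t_i t_{i+1}⁻¹`. -/
noncomputable def d (i : ℤ) : SpecialLinearGroup (Fin n) F :=
  regUnip n F ^ i * (S.t * regUnip n F * S.t⁻¹ * (regUnip n F)⁻¹) * (regUnip n F ^ i)⁻¹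

theorem d_mem (i : ℤ) : S.d i ∈ S.G :=
  mul_mem (mul_mem (zpow_mem S.hu i) (mul_mem S.hv (inv_mem S.hu))) (inv_mem (zpow_mem S.hu i))

omit [NeZero n] in
theorem inv_up (i : ℤ) : (((regUnip n F ^ i)⁻¹ : SpecialLinearGroup (Fin n) F) :
    Matrix (Fin n) (Fin n) F) = up n F (-i) := by
  rw [up, _root_.zpow_neg]

theorem conj_transvec (i : ℤ) {w : SpecialLinearGroup (Fin n) F} {x : F} {j : ℤ}
    (hw : (w : Matrix (Fin n) (Fin n) F) = 1 + vecMulVec (ai n F j) (x • fi S.f j)) :
    ((regUnip n F ^ i * w * (regUnip n F ^ i)⁻¹ : SpecialLinearGroup (Fin n) F) :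
      Matrix (Fin n) (Fin n) F) = 1 + vecMulVec (ai n F (i + j)) (x • fi S.f (i + j)) := by
  rw [val_mul, val_mul, hw, inv_up]
  change up n F i * _ * _ = _
  rw [mul_add, mul_one, add_mul, mul_vecMulVec, vecMulVec_mul, up_mulVec_ai, smul_vecMul,
    fi_vecMul_up, ← up_add, add_neg_cancel, up_zero, add_comm j i]

theorem d_val (i : ℤ) : (S.d i : Matrix (Fin n) (Fin n) F) =
    (1 + vecMulVec (ai n F i) (S.τ • fi S.f i)) *
      (1 + vecMulVec (ai n F (i + 1)) ((-S.τ) • fi S.f (i + 1))) := by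
  have hti : ((S.t⁻¹ : SpecialLinearGroup (Fin n) F) : Matrix (Fin n) (Fin n) F) =
      1 + vecMulVec (ai n F 0) ((-S.τ) • fi S.f 0) := by
    have key : (1 + vecMulVec (ai n F 0) ((-S.τ) • fi S.f 0)) * (S.t : Matrix (Fin n) (Fin n) F) = 1 := by
      rw [S.ht, add_mul, one_mul, mul_add, mul_one, vecMulVec_mul_vecMulVec, smul_dotProduct, pair,
        sub_self, S.h0, smul_zero, zero_smul, vecMulVec_zero, neg_smul, vecMulVec_neg]
      abel
    calc ((S.t⁻¹ : SpecialLinearGroup (Fin n) F) : Matrix (Fin n) (Fin n) F)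
        = ((1 + vecMulVec (ai n F 0) ((-S.τ) • fi S.f 0)) * S.t) *
            ((S.t⁻¹ : SpecialLinearGroup (Fin n) F) : Matrix (Fin n) (Fin n) F) := by
          rw [key, one_mul]
      _ = _ := by rw [mul_assoc, ← val_mul, mul_inv_cancel, val_one, mul_one]
  have h : S.d i = (regUnip n F ^ i * S.t * (regUnip n F ^ i)⁻¹) *
      (regUnip n F ^ (i + 1) * S.t⁻¹ * (regUnip n F ^ (i + 1))⁻¹) := by
    unfold d
    rw [_root_.zpow_add_one]
    group
  rw [h, val_mul, conj_transvec S i S.ht, conj_transvec S (i + 1) hti, add_zero, add_zero]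

theorem T_orth {j : ℤ} (hj : phi S.f (-j) = 0) (x : F) : (x • fi S.f j) ⬝ᵥ ai n F 0 = 0 := by
  rw [smul_dotProduct, pair, zero_sub, hj, smul_zero]

theorem T_add {x y : F} {j : ℤ} (hj : phi S.f (-j) = 0) (hx : S.T x j) (hy : S.T y j) :
    S.T (x + y) j := by
  unfold T
  rw [add_smul]
  exact hx.add_right (S.T_orth hj x) hy

theorem T_zero (j : ℤ) : S.T 0 j := by
  unfold T
  rw [zero_smul]
  exact HasTransvec.zero_right _

theorem T_neg {x : F} {j : ℤ} (hj : phi S.f (-j) = 0) (hx : S.T x j) : S.T (-x) j := by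
  unfold T
  rw [neg_smul]
  exact hasTransvec_neg (S.T_orth hj x) hx

theorem T_nat {x : F} {j : ℤ} (hj : phi S.f (-j) = 0) (hx : S.T x j) (k : ℕ) :
    S.T ((k : F) * x) j := by
  induction k with
  | zero => rw [Nat.cast_zero, zero_mul]; exact S.T_zero j
  | succ k ih => rw [Nat.cast_succ, add_mul, one_mul]; exact S.T_add hj ih hx

/-- The basic transvection, the iterated commutator `[d₀, [d₀, d₁]]`. -/
theorem T_base : S.T (S.τ ^ 3) 2 := by
  set D0 := (S.d 0 : Matrix (Fin n) (Fin n) F) with eD0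
  set D1 := (S.d 1 : Matrix (Fin n) (Fin n) F) with eD1
  have hD0 := S.d_val 0
  have hD1 := S.d_val 1
  rw [zero_add, ← eD0] at hD0
  rw [show (1 : ℤ) + 1 = 2 by ring, ← eD1] at hD1
  let a0 := ai n F 0
  let a1 := ai n F 1
  let C : Matrix (Fin n) (Fin n) F := 1 + vecMulVec a0 (S.τ ^ 2 • fi S.f 1) +
    vecMulVec a0 ((S.τ ^ 3 - S.τ ^ 2 * phi S.f 2) • fi S.f 2) +
    vecMulVec a1 (S.τ ^ 2 • fi S.f 2)
  have hC : C * (D1 * D0) = D0 * D1 := by
    rw [hD0, hD1]
    simp only [C, a0, a1, add_mul, mul_add, one_mul, mul_one, vecMulVec_mul_vecMulVec,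
      smul_dotProduct, pair]
    norm_num [S.h0, S.h1, S.hm1, S.hm2, vecMulVec_smul, smul_smul, vecMulVec_zero]
    module
  let E : Matrix (Fin n) (Fin n) F := 1 + vecMulVec a0 (S.τ ^ 3 • fi S.f 2)
  have hE : E * (C * D0) = D0 * C := by
    rw [hD0]
    simp only [C, E, a0, a1, add_mul, mul_add, one_mul, mul_one, vecMulVec_mul_vecMulVec,
      smul_dotProduct, pair]
    norm_num [S.h0, S.h1, S.hm1, S.hm2, vecMulVec_smul, smul_smul, vecMulVec_zero]
    module
  obtain ⟨c, hc⟩ : ∃ c, c = S.d 0 * S.d 1 * (S.d 0)⁻¹ * (S.d 1)⁻¹ := ⟨_, rfl⟩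
  have hcval : (c : Matrix (Fin n) (Fin n) F) = C := by
    have h' : ((c * (S.d 1 * S.d 0) : SpecialLinearGroup (Fin n) F) :
        Matrix (Fin n) (Fin n) F) = D0 * D1 := by
      rw [show c * (S.d 1 * S.d 0) = S.d 0 * S.d 1 by rw [hc]; group]
      rfl
    rw [val_mul, val_mul, ← eD0, ← eD1, ← hC] at h'
    calc (c : Matrix (Fin n) (Fin n) F)
        = (c : Matrix (Fin n) (Fin n) F) * (D1 * D0) *
            ((S.d 1 * S.d 0)⁻¹ : SpecialLinearGroup (Fin n) F) := by
          rw [eD0, eD1, ← val_mul, ← val_mul, ← val_mul, mul_inv_cancel_right]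
      _ = C := by
          rw [h', eD0, eD1, ← val_mul, mul_assoc, ← val_mul, mul_inv_cancel, val_one, mul_one]
  refine ⟨S.d 0 * c * (S.d 0)⁻¹ * c⁻¹, ?_, ?_⟩
  · have hcm : c ∈ S.G := by
      rw [hc]
      exact mul_mem (mul_mem (mul_mem (S.d_mem 0) (S.d_mem 1)) (inv_mem (S.d_mem 0))) (inv_mem (S.d_mem 1))
    exact mul_mem (mul_mem (mul_mem (S.d_mem 0) hcm) (inv_mem (S.d_mem 0))) (inv_mem hcm)
  · change _ = E
    have h' : ((S.d 0 * c : SpecialLinearGroup (Fin n) F) : Matrix (Fin n) (Fin n) F) =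
        E * ((c * S.d 0 : SpecialLinearGroup (Fin n) F) : Matrix (Fin n) (Fin n) F) := by
      rw [val_mul, val_mul, hcval, ← eD0, hE]
    rw [show S.d 0 * c * (S.d 0)⁻¹ * c⁻¹ = (S.d 0 * c) * (c * S.d 0)⁻¹ by group, val_mul, h',
      mul_assoc, ← val_mul, mul_inv_cancel, val_one, mul_one]

/-- Conjugation by `d i` shifts the axis up. -/
theorem T_step {x : F} {i : ℤ} (hi : phi S.f (-i) = 0) (hi1 : phi S.f (-(i + 1)) = 0)
    (hx : S.T x i) : S.T (S.τ * x) (i + 1) := by
  have hfix : (S.d i : Matrix (Fin n) (Fin n) F) *ᵥ ai n F 0 = ai n F 0 := by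
    have hkill : ∀ (a g : Fin n → F), g ⬝ᵥ ai n F 0 = 0 →
        (1 + vecMulVec a g) *ᵥ ai n F 0 = ai n F 0 := by
      intro a g hg
      rw [add_mulVec, one_mulVec, vecMulVec_mulVec, hg, MulOpposite.op_zero, zero_smul, add_zero]
    rw [S.d_val, ← mulVec_mulVec, hkill _ _ (S.T_orth hi1 _), hkill _ _ (S.T_orth hi _)]
  have h := HasTransvec.conj (inv_mem (S.d_mem i)) hx
  rw [inv_inv] at h
  have hc : ((S.d i)⁻¹ : SpecialLinearGroup (Fin n) F).1 *ᵥ ai n F 0 = ai n F 0 := by
    conv_lhs => rw [← hfix, mulVec_mulVec, ← val_mul, inv_mul_cancel, val_one, one_mulVec]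
  rw [hc, S.d_val] at h
  have hf : (x • fi S.f i) ᵥ* ((1 + vecMulVec (ai n F i) (S.τ • fi S.f i)) *
      (1 + vecMulVec (ai n F (i + 1)) ((-S.τ) • fi S.f (i + 1)))) =
      x • fi S.f i + (-(S.τ * x)) • fi S.f (i + 1) := by
    have hrow : ∀ (g a h' : Fin n → F), g ᵥ* (1 + vecMulVec a h') = g + (g ⬝ᵥ a) • h' := by
      intro g a h'
      rw [vecMul_add, vecMul_one, vecMul_vecMulVec]
    rw [← vecMul_vecMul, hrow (x • fi S.f i), smul_dotProduct, pair, sub_self, S.h0, smul_zero,
      zero_smul, add_zero, hrow, smul_dotProduct, pair, show i + 1 - i = 1 by ring, S.h1]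
    simp [smul_smul, mul_comm]
  rw [hf] at h
  have h2 := HasTransvec.add_right (by rw [add_dotProduct, S.T_orth hi, S.T_orth hi1, add_zero]) h
    (hasTransvec_neg (S.T_orth hi x) hx)
  rw [show x • fi S.f i + (-(S.τ * x)) • fi S.f (i + 1) + -(x • fi S.f i) =
    (-(S.τ * x)) • fi S.f (i + 1) by abel] at h2
  have := hasTransvec_neg (S.T_orth hi1 _) h2
  rwa [← neg_smul, neg_neg] at this

/-- Commutator with a shifted transvection. -/
theorem T_comm {x y : F} {i j : ℤ} (s : ℤ) (hi : phi S.f (-i) = 0) (hj : phi S.f (-j) = 0)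
    (hsj : phi S.f (-(s + j)) = 0) (hx : S.T x i) (hy : S.T y j) :
    S.T (x * y * phi S.f (s - i)) (s + j) := by
  have h' := HasTransvec.conj (zpow_mem S.hu s) hy
  rw [inv_up] at h'
  change HasTransvec S.G (up n F s *ᵥ _) _ at h'
  rw [up_mulVec_ai, smul_vecMul, fi_vecMul_up, add_zero, add_comm j s] at h'
  have hgb : (y • fi S.f (s + j)) ⬝ᵥ ai n F s = 0 := by
    rw [smul_dotProduct, pair, show s - (s + j) = -j by ring, hj, smul_zero]
  have := HasTransvec.commutator (S.T_orth hsj y) (S.T_orth hi x) hgb hx h'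
  rw [smul_dotProduct, pair, smul_smul, smul_eq_mul] at this
  unfold T
  rwa [show x * y * phi S.f (s - i) = x * phi S.f (s - i) * y by ring]

/-- The functionals `f_k`, `k < n`, span everything if `f` does not kill the fixed vector. -/
theorem exists_combination (hf : S.f ⬝ᵥ (shiftMat n F ^ (n - 1) *ᵥ ai n F 0) ≠ 0) (g : Fin n → F) :
    ∃ c : Fin n → F, g = ∑ k : Fin n, c k • fi S.f (k.val : ℤ) := by
  have hn : 0 < n := Nat.pos_of_ne_zero (NeZero.ne n)
  obtain ⟨c, hc⟩ : ∃ c, c ᵥ* (Matrix.of fun k : Fin n => fi S.f (k.val : ℤ)) = g := by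
    refine vecMul_surjective_iff_isUnit.2 ?_ g
    rw [← mulVec_injective_iff_isUnit]
    intro x y hxy
    rw [← sub_eq_zero]
    set z := x - y
    have hk : ∀ k, k < n → fi S.f (k : ℤ) ⬝ᵥ z = 0 := by
      intro k hk
      have := congrFun hxy ⟨k, hk⟩
      simp only [mulVec, Matrix.of_apply] at this
      rw [dotProduct_sub, this, sub_self]
    by_contra hz
    let J' : Matrix (Fin n) (Fin n) F := up n F (-1) - 1
    have hJ'n : J' ^ n = 0 := by
      have e : J' = -(shiftMat n F * up n F (-1)) := by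
        have h1 : up n F 1 * up n F (-1) = 1 := by rw [← up_add, add_neg_cancel, up_zero]
        rw [show up n F (1 : ℤ) = 1 + shiftMat n F by rw [up, zpow_one, regUnip_val], add_mul,
          one_mul] at h1
        simp only [J']
        rw [eq_neg_iff_add_eq_zero, sub_add_eq_add_sub, h1, sub_self]
      have hcomm : Commute (shiftMat n F) (up n F (-1)) := by
        have h1 : up n F 1 * up n F (-1) = up n F (-1) * up n F 1 := by
          rw [← up_add, ← up_add, add_comm]
        rw [show up n F (1 : ℤ) = 1 + shiftMat n F by rw [up, zpow_one, regUnip_val], add_mul,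
          mul_add, one_mul, mul_one] at h1
        exact add_left_cancel h1
      rw [e, neg_pow, hcomm.mul_pow, shiftMat_pow_eq_zero, zero_mul, mul_zero]
    have hker : ∀ k, k < n → S.f ⬝ᵥ (J' ^ k *ᵥ z) = 0 := by
      intro k hk'
      rw [show J' = up n F (-1) + (-1) by simp [J', sub_eq_add_neg],
        ((Commute.one_right _).neg_right).add_pow, Matrix.sum_mulVec, dotProduct_sum]
      refine Finset.sum_eq_zero fun i hi => ?_
      rw [Finset.mem_range] at hi
      have hpow : up n F (-1) ^ i = up n F (-(i : ℤ)) := by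
        induction i with
        | zero => simp [up_zero]
        | succ i ih =>
          rw [pow_succ, ih (by omega), ← up_add]
          push_cast; ring_nf
      have hz0 : S.f ⬝ᵥ (up n F (-(i : ℤ)) *ᵥ z) = 0 := by
        rw [dotProduct_mulVec]; exact hk i (by omega)
      rcases Nat.even_or_odd (k - i) with he | he <;>
        simp [hpow, he.neg_one_pow, ← Matrix.diagonal_natCast, ← Matrix.smul_one_eq_diagonal,
          smul_mulVec, neg_mulVec, hz0]
    classical
    have hex : ∃ k, J' ^ k *ᵥ z = 0 := ⟨n, by rw [hJ'n, zero_mulVec]⟩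
    set m := Nat.find hex with hm
    have hm0 : m ≠ 0 := fun e => hz (by simpa [e] using (hm ▸ Nat.find_spec hex : J' ^ m *ᵥ z = 0))
    have hmn : m ≤ n := Nat.find_min' hex (by rw [hJ'n, zero_mulVec])
    set w := J' ^ (m - 1) *ᵥ z with hw
    have hw0 : w ≠ 0 := Nat.find_min hex (show m - 1 < Nat.find hex by omega)
    have hJw : J' *ᵥ w = 0 := by
      rw [hw, mulVec_mulVec, ← pow_succ', show m - 1 + 1 = m by omega]
      exact Nat.find_spec hex
    have hJw' : shiftMat n F *ᵥ w = 0 := by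
      have : up n F 1 *ᵥ (up n F (-1) *ᵥ w) = w := by
        rw [mulVec_mulVec, ← up_add, add_neg_cancel, up_zero, one_mulVec]
      simp only [J', sub_mulVec, one_mulVec, sub_eq_zero] at hJw
      rw [hJw, up, zpow_one, regUnip_val, add_mulVec, one_mulVec] at this
      simpa using this
    have hwe : w = w ⟨0, hn⟩ • (shiftMat n F ^ (n - 1) *ᵥ ai n F 0) := by
      ext i
      rw [ai, up_zero, one_mulVec, mulVec_single, MulOpposite.op_one, one_smul, Pi.smul_apply,
        Matrix.col_apply, shiftMat_pow_apply, smul_eq_mul]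
      rcases Nat.eq_zero_or_pos i.val with h | h
      · rw [if_pos (show i.val + (n - 1) = n - 1 by omega), mul_one,
          show i = ⟨0, hn⟩ from Fin.ext h]
      · rw [if_neg (show ¬ i.val + (n - 1) = n - 1 by omega), mul_zero]
        have := congrFun hJw' ⟨i.val - 1, by omega⟩
        rw [shiftMat_mulVec, dif_pos (show i.val - 1 + 1 < n by omega)] at this
        simpa [show (⟨i.val - 1 + 1, by omega⟩ : Fin n) = i from
          Fin.ext (show i.val - 1 + 1 = i.val by omega)] using this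
    have := hker (m - 1) (by omega)
    rw [← hw, hwe, dotProduct_smul, smul_eq_mul] at this
    rcases mul_eq_zero.1 this with h | h
    · apply hw0; rw [hwe, h, zero_smul]
    · exact hf h
  refine ⟨c, ?_⟩
  rw [← hc]
  ext l
  simp [vecMul, dotProduct, Finset.sum_apply]

/-- Closing step: all axes for the centre `a₀` give everything. -/
theorem eq_top [Fact (2 ≤ n)]
    (h : ∀ g : Fin n → F, g ⬝ᵥ ai n F 0 = 0 → HasTransvec S.G (ai n F 0) g) : S.G = ⊤ := by
  have h2 : 2 ≤ n := Fact.out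
  haveI : Nontrivial (Fin n) := Fin.nontrivial_iff_two_le.2 h2
  refine eq_top_of_centre S.G (ai n F 0) h fun W hW hinv => ?_
  refine eq_top_of_invariant (by omega) W ?_ fun v hv => ?_
  · rw [ai, up_zero, one_mulVec] at hW
    exact hW
  · exact hinv _ S.hu v hv

end Setup

variable [Fintype F]

omit [NeZero n] in
/-- An additive, multiplicatively closed set containing a generator of `Fˣ` is everything. -/
theorem eq_univ_of_closed (X : Set F) (h0 : (0 : F) ∈ X) (hmul : ∀ a b, a ∈ X → b ∈ X → a * b ∈ X)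
    (ω : Fˣ) (hω : ∀ x : Fˣ, x ∈ Subgroup.zpowers ω) (hω' : (ω : F) ∈ X) : ∀ a, a ∈ X := by
  intro a
  have hpow : ∀ k : ℕ, (ω : F) ^ (k + 1) ∈ X := by
    intro k
    induction k with
    | zero => simpa using hω'
    | succ k ih => rw [pow_succ]; exact hmul _ _ ih hω'
  rcases eq_or_ne a 0 with rfl | ha
  · exact h0
  · obtain ⟨k, hk⟩ := mem_powers_iff_mem_zpowers.2 (hω (Units.mk0 a ha))
    have hk' : (ω : F) ^ k = a := by simpa using congrArg Units.val hk
    cases k with
    | zero =>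
      have := hpow (orderOf ω - 1)
      rw [Nat.sub_add_cancel (orderOf_pos ω), ← Units.val_pow_eq_pow_val, pow_orderOf_eq_one] at this
      simpa [← hk'] using this
    | succ k => exact hk' ▸ hpow k

end CfsgLib.RegUnip.TwoGen
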